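import Groth.Agent.Lib.EtSite.BaseChange
import Groth.Agent.Lib.EtSite.FieldExt
import Groth.Agent.Lib.EtSite.Push

/-!
Locally representable functions on geometric points: the presheaf on all `S`-schemes attached to a
sheaf on the small etale site of `S`.
-/

set_option autoImplicit false

universe u

open CategoryTheory CategoryTheory.Limits AlgebraicGeometry Opposite

noncomputable section

namespace Groth.Agent.Lib.EtGerm.Basic

open Groth.Agent.Lib.EtSite Groth.Agent.Lib.EtSite.Basic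

variable {S : Scheme.{u}} (F : EtCoh.Ab S)

/-- The stalk at a geometric point. -/
abbrev Stk {Ω : Type u} [Field Ω] [IsSepClosed Ω] (η : Spec (CommRingCat.of Ω) ⟶ S) :
    Type (u + 1) :=
  ((Scheme.pointSmallEtale η).presheafFiber.obj F.obj : AddCommGrpCat.{u + 1})

/-- The germ of a section. -/
def germ {Ω : Type u} [Field Ω] [IsSepClosed Ω] (η : Spec (CommRingCat.of Ω) ⟶ S) (W : S.Etale)
    (p : (Scheme.pointSmallEtale η).fiber.obj W) : F.obj.obj (op W) →+ Stk F η :=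
  ((Scheme.pointSmallEtale η).toPresheafFiber W p F.obj).hom

theorem germ_map {Ω : Type u} [Field Ω] [IsSepClosed Ω] (η : Spec (CommRingCat.of Ω) ⟶ S)
    {W W' : S.Etale} (g : W' ⟶ W) (q : (Scheme.pointSmallEtale η).fiber.obj W')
    (a : F.obj.obj (op W)) :
    germ F η W' q (F.obj.map g.op a) =
      germ F η W ((Scheme.pointSmallEtale η).fiber.map g q) a :=
  (Scheme.pointSmallEtale η).toPresheafFiber_w_apply g q F.obj a

theorem exists_germ {Ω : Type u} [Field Ω] [IsSepClosed Ω] {η : Spec (CommRingCat.of Ω) ⟶ S}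
    (x : Stk F η) : ∃ W p a, germ F η W p a = x :=
  (Scheme.pointSmallEtale η).toPresheafFiber_jointly_surjective x

/-- The open set where two sections agree locally. -/
abbrev agree (W : S.Etale) (a a' : F.obj.obj (op W)) : Set W.left :=
  {x : W.left | ∃ (W' : S.Etale) (g : W' ⟶ W), F.obj.map g.op a = F.obj.map g.op a' ∧
    x ∈ Set.range g.left.base}

theorem isOpen_agree (W : S.Etale) (a a' : F.obj.obj (op W)) : IsOpen (agree F W a a') :=
  BaseChange.isOpen_agree F.obj W a a'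

theorem germ_eq_iff {Ω : Type u} [Field Ω] [IsSepClosed Ω] (η : Spec (CommRingCat.of Ω) ⟶ S)
    (W : S.Etale) (p : (Scheme.pointSmallEtale η).fiber.obj W) (a a' : F.obj.obj (op W)) :
    germ F η W p a = germ F η W p a' ↔ fiberPt p ∈ agree F W a a' :=
  BaseChange.toPresheafFiber_eq_iff_mem F.obj W a a' p

/-! ### Change of field -/

section ext

variable {Ω : Type u} [Field Ω] [IsSepClosed Ω] {η : Spec (CommRingCat.of Ω) ⟶ S}
  {Ω' : Type u} [Field Ω'] [IsSepClosed Ω'] {η' : Spec (CommRingCat.of Ω') ⟶ S}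
  (φ : Spec (CommRingCat.of Ω') ⟶ Spec (CommRingCat.of Ω)) (hφ : φ ≫ η = η')

/-- Extension of a fibre point along a map of geometric points. -/
def extPt (W : S.Etale) (p : (Scheme.pointSmallEtale η).fiber.obj W) :
    (Scheme.pointSmallEtale η').fiber.obj W :=
  mkFiber η' W (φ ≫ fiberHom p)
    ((Category.assoc _ _ _).trans ((congrArg (φ ≫ ·) (fiberHom_comp p)).trans hφ))

theorem map_extPt {W W' : S.Etale} (g : W' ⟶ W) (q : (Scheme.pointSmallEtale η).fiber.obj W') :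
    (Scheme.pointSmallEtale η').fiber.map g (extPt φ hφ W' q) =
      extPt φ hφ W ((Scheme.pointSmallEtale η).fiber.map g q) :=
  Over.OverMorphism.ext (Category.assoc _ _ _)

theorem fiberPt_extPt (W : S.Etale) (p : (Scheme.pointSmallEtale η).fiber.obj W) :
    fiberPt (extPt φ hφ W p) = fiberPt p := by
  change (fiberHom p).base (φ.base default) = (fiberHom p).base default
  exact congrArg (fiberHom p).base (Subsingleton.elim _ _)

/-- Extension of stalks along a map of geometric points. -/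
def extStk : Stk F η →+ Stk F η' :=
  ((Scheme.pointSmallEtale η).presheafFiberDesc
    (fun W p => (Scheme.pointSmallEtale η').toPresheafFiber W (extPt φ hφ W p) F.obj)
    (fun W W' g q => by
      refine ((Scheme.pointSmallEtale η').toPresheafFiber_w g _ F.obj).trans ?_
      rw [map_extPt])).hom

theorem extStk_germ (W : S.Etale) (p : (Scheme.pointSmallEtale η).fiber.obj W)
    (a : F.obj.obj (op W)) :
    extStk F φ hφ (germ F η W p a) = germ F η' W (extPt φ hφ W p) a :=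
  ConcreteCategory.congr_hom ((Scheme.pointSmallEtale η).toPresheafFiber_presheafFiberDesc
    (fun W p => (Scheme.pointSmallEtale η').toPresheafFiber W (extPt φ hφ W p) F.obj) _ W p) a

theorem extStk_injective : Function.Injective (extStk F φ hφ) := by
  refine (injective_iff_map_eq_zero _).2 fun x hx => ?_
  obtain ⟨W, p, a, rfl⟩ := exists_germ F x
  rw [extStk_germ, ← map_zero (germ F η' W (extPt φ hφ W p)), germ_eq_iff, fiberPt_extPt] at hx
  rw [← map_zero (germ F η W p), germ_eq_iff]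
  exact hx

theorem extStk_surjective : Function.Surjective (extStk F φ hφ) := by
  intro y
  obtain ⟨W, q, a, rfl⟩ := exists_germ F y
  obtain ⟨ψ, rfl⟩ := Spec.map_surjective φ
  letI : Algebra Ω Ω' := ψ.hom.toAlgebra
  subst hφ
  let p := (FieldExt.fiberExtIso η Ω').inv.app W q
  refine ⟨germ F η W p a, ?_⟩
  rw [extStk_germ]
  refine congrArg (fun r => germ F _ W r a) ?_
  exact ConcreteCategory.congr_hom ((FieldExt.fiberExtIso η Ω').inv_hom_id_app W) q

end ext

theorem extStk_extStk {Ω : Type u} [Field Ω] [IsSepClosed Ω] {η : Spec (CommRingCat.of Ω) ⟶ S}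
    {Ω' : Type u} [Field Ω'] [IsSepClosed Ω'] {η' : Spec (CommRingCat.of Ω') ⟶ S}
    {Ω'' : Type u} [Field Ω''] [IsSepClosed Ω''] {η'' : Spec (CommRingCat.of Ω'') ⟶ S}
    (φ : Spec (CommRingCat.of Ω') ⟶ Spec (CommRingCat.of Ω)) (hφ : φ ≫ η = η')
    (χ : Spec (CommRingCat.of Ω'') ⟶ Spec (CommRingCat.of Ω')) (hχ : χ ≫ η' = η'')
    (ψ : Spec (CommRingCat.of Ω'') ⟶ Spec (CommRingCat.of Ω)) (hψ : ψ ≫ η = η'')
    (h : χ ≫ φ = ψ) (x : Stk F η) :
    extStk F χ hχ (extStk F φ hφ x) = extStk F ψ hψ x := by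
  obtain ⟨W, p, a, rfl⟩ := exists_germ F x
  rw [extStk_germ, extStk_germ, extStk_germ]
  refine congrArg (fun r => germ F _ W r a) (Over.OverMorphism.ext ?_)
  change χ ≫ φ ≫ fiberHom p = ψ ≫ fiberHom p
  rw [← Category.assoc, h]

theorem extStk_id {Ω : Type u} [Field Ω] [IsSepClosed Ω] {η : Spec (CommRingCat.of Ω) ⟶ S}
    (h : 𝟙 _ ≫ η = η) (x : Stk F η) : extStk F (𝟙 _) h x = x := by
  obtain ⟨W, p, a, rfl⟩ := exists_germ F x
  rw [extStk_germ]
  exact congrArg (fun r => germ F η W r a) (Over.OverMorphism.ext (Category.id_comp _))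

/-- Two geometric points of a scheme with the same image have a common extension. -/
theorem exists_common {Z : Scheme.{u}} {Ω₁ : Type u} [Field Ω₁] {Ω₂ : Type u} [Field Ω₂]
    (l₁ : Spec (CommRingCat.of Ω₁) ⟶ Z) (l₂ : Spec (CommRingCat.of Ω₂) ⟶ Z)
    (h : l₁.base default = l₂.base default) :
    ∃ (Ω : Type u) (_ : Field Ω) (_ : IsSepClosed Ω)
      (χ₁ : Spec (CommRingCat.of Ω) ⟶ Spec (CommRingCat.of Ω₁))
      (χ₂ : Spec (CommRingCat.of Ω) ⟶ Spec (CommRingCat.of Ω₂)), χ₁ ≫ l₁ = χ₂ ≫ l₂ := by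
  obtain ⟨z, -, -⟩ := Scheme.Pullback.exists_preimage_pullback (f := l₁) (g := l₂) default default h
  refine ⟨_, inferInstance, inferInstance, Push.algPoint (pullback l₁ l₂) z ≫ pullback.fst l₁ l₂,
    Push.algPoint (pullback l₁ l₂) z ≫ pullback.snd l₁ l₂, ?_⟩
  rw [Category.assoc, Category.assoc, pullback.condition]

/-! ### Functions on geometric points -/

/-- A geometric point of an `S`-scheme. -/
structure GPt (T : Over S) : Type (u + 1) where
  /-- the field -/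
  Ω : Type u
  [fld : Field Ω]
  [sep : IsSepClosed Ω]
  /-- its image in the base -/
  η : Spec (CommRingCat.of Ω) ⟶ S
  /-- the point -/
  ξ : Spec (CommRingCat.of Ω) ⟶ T.left
  comm : ξ ≫ T.hom = η

attribute [instance] GPt.fld GPt.sep

/-- Functions on the geometric points of an `S`-scheme with values in the stalks. -/
abbrev Germs (T : Over S) : Type (u + 1) :=
  ∀ p : GPt T, Stk F p.η

/-- The fibre point of `W` under a geometric point. -/
def ptOf {T : Over S} {V : Scheme.{u}} {c : V ⟶ T.left} {W : S.Etale} {b : V ⟶ W.left}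
    (hb : b ≫ W.hom = c ≫ T.hom) {Ω : Type u} [Field Ω] [IsSepClosed Ω]
    {η : Spec (CommRingCat.of Ω) ⟶ S} {ξ : Spec (CommRingCat.of Ω) ⟶ T.left}
    (h : ξ ≫ T.hom = η) (l : Spec (CommRingCat.of Ω) ⟶ V) (hl : l ≫ c = ξ) :
    (Scheme.pointSmallEtale η).fiber.obj W :=
  mkFiber η W (l ≫ b) ((Category.assoc _ _ _).trans ((congrArg (l ≫ ·) hb).trans
    ((Category.assoc _ _ _).symm.trans ((congrArg (· ≫ T.hom) hl).trans h))))

/-- The function is the germ of `a` on `V`. -/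
def IsRep {T : Over S} (σ : Germs F T) {V : Scheme.{u}} (c : V ⟶ T.left) (W : S.Etale)
    (b : V ⟶ W.left) (hb : b ≫ W.hom = c ≫ T.hom) (a : F.obj.obj (op W)) : Prop :=
  ∀ (Ω : Type u) [Field Ω] [IsSepClosed Ω] (η : Spec (CommRingCat.of Ω) ⟶ S)
    (ξ : Spec (CommRingCat.of Ω) ⟶ T.left) (h : ξ ≫ T.hom = η)
    (l : Spec (CommRingCat.of Ω) ⟶ V) (hl : l ≫ c = ξ),
    σ ⟨Ω, η, ξ, h⟩ = germ F η W (ptOf hb h l hl) a

/-- Etale locally a germ of a section. -/
def IsLocRep {T : Over S} (σ : Germs F T) : Prop :=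
  ∀ t : T.left, ∃ (V : Scheme.{u}) (c : V ⟶ T.left) (_ : Etale c) (W : S.Etale) (b : V ⟶ W.left)
    (hb : b ≫ W.hom = c ≫ T.hom) (a : F.obj.obj (op W)),
    t ∈ Set.range c.base ∧ IsRep F σ c W b hb a

/-- The fibre product of two etale schemes over the base. -/
abbrev prodEt (W₁ W₂ : S.Etale) : S.Etale :=
  haveI : Etale W₁.hom := W₁.prop
  haveI : Etale W₂.hom := W₂.prop
  Scheme.Etale.mk (pullback.fst W₁.hom W₂.hom ≫ W₁.hom)

/-- First projection. -/
abbrev prodFst (W₁ W₂ : S.Etale) : prodEt W₁ W₂ ⟶ W₁ :=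
  MorphismProperty.Over.homMk (pullback.fst W₁.hom W₂.hom) rfl

/-- Second projection. -/
abbrev prodSnd (W₁ W₂ : S.Etale) : prodEt W₁ W₂ ⟶ W₂ :=
  MorphismProperty.Over.homMk (pullback.snd W₁.hom W₂.hom) pullback.condition.symm

theorem IsLocRep.add {T : Over S} {σ τ : Germs F T} (hσ : IsLocRep F σ) (hτ : IsLocRep F τ) :
    IsLocRep F (σ + τ) := by
  intro t
  obtain ⟨V₁, c₁, _, W₁, b₁, hb₁, a₁, ⟨v₁, hv₁⟩, h₁⟩ := hσ t
  obtain ⟨V₂, c₂, _, W₂, b₂, hb₂, a₂, ⟨v₂, hv₂⟩, h₂⟩ := hτ t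
  let b : pullback c₁ c₂ ⟶ (prodEt W₁ W₂).left :=
    pullback.lift (pullback.fst c₁ c₂ ≫ b₁) (pullback.snd c₁ c₂ ≫ b₂) (by
      rw [Category.assoc, Category.assoc, hb₁, hb₂, pullback.condition_assoc])
  have hb : b ≫ (prodEt W₁ W₂).hom = (pullback.fst c₁ c₂ ≫ c₁) ≫ T.hom := by
    change b ≫ pullback.fst W₁.hom W₂.hom ≫ W₁.hom = _
    refine (Category.assoc _ _ _).symm.trans ((congrArg (· ≫ W₁.hom) (pullback.lift_fst _ _ _)).trans ?_)
    rw [Category.assoc, hb₁, Category.assoc]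
  obtain ⟨z, hz, -⟩ := Scheme.Pullback.exists_preimage_pullback (f := c₁) (g := c₂) v₁ v₂
    (hv₁.trans hv₂.symm)
  refine ⟨pullback c₁ c₂, pullback.fst c₁ c₂ ≫ c₁, inferInstance, prodEt W₁ W₂, b, hb,
    F.obj.map (prodFst W₁ W₂).op a₁ + F.obj.map (prodSnd W₁ W₂).op a₂,
    ⟨z, (congrArg c₁.base hz).trans hv₁⟩, fun Ω _ _ η ξ h l hl => ?_⟩
  rw [map_add, germ_map, germ_map]
  have e₁ : (Scheme.pointSmallEtale η).fiber.map (prodFst W₁ W₂) (ptOf hb h l hl) =
      ptOf hb₁ h (l ≫ pullback.fst c₁ c₂) ((Category.assoc _ _ _).trans hl) :=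
    Over.OverMorphism.ext (((Category.assoc _ _ _).trans
      (congrArg (l ≫ ·) (pullback.lift_fst _ _ _))).trans (Category.assoc _ _ _).symm)
  have e₂ : (Scheme.pointSmallEtale η).fiber.map (prodSnd W₁ W₂) (ptOf hb h l hl) =
      ptOf hb₂ h (l ≫ pullback.snd c₁ c₂)
        (by rw [Category.assoc, ← pullback.condition]; exact hl) :=
    Over.OverMorphism.ext (((Category.assoc _ _ _).trans
      (congrArg (l ≫ ·) (pullback.lift_snd _ _ _))).trans (Category.assoc _ _ _).symm)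
  rw [e₁, e₂]
  exact congrArg₂ (· + ·) (h₁ Ω η ξ h _ _) (h₂ Ω η ξ h _ _)

/-- The locally representable functions. -/
def sect (T : Over S) : AddSubgroup (Germs F T) where
  carrier := {σ | IsLocRep F σ}
  add_mem' hσ hτ := IsLocRep.add F hσ hτ
  zero_mem' t := ⟨T.left, 𝟙 _, inferInstance, EtCoh.top S, T.hom,
    ((Category.comp_id _).trans (Category.id_comp _).symm), 0, ⟨t, rfl⟩,
    fun Ω _ _ η ξ h l hl => (map_zero _).symm⟩
  neg_mem' {σ} hσ t := by
    obtain ⟨V, c, hc, W, b, hb, a, ht, h⟩ := hσ t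
    exact ⟨V, c, hc, W, b, hb, -a, ht, fun Ω _ _ η ξ hh l hl =>
      ((congrArg (- ·) (h Ω η ξ hh l hl)).trans (map_neg _ _).symm : _)⟩

/-- Restriction of functions. -/
def restr {T T' : Over S} (g : T' ⟶ T) : Germs F T →+ Germs F T' where
  toFun σ := fun x => σ ⟨x.Ω, x.η, x.ξ ≫ g.left,
    (Category.assoc _ _ _).trans ((congrArg (x.ξ ≫ ·) (Over.w g)).trans x.comm)⟩
  map_zero' := rfl
  map_add' _ _ := rfl

/-- Pulling back a representation. -/
theorem IsRep.restr {T T' : Over S} (g : T' ⟶ T) {σ : Germs F T} {V : Scheme.{u}}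
    {c : V ⟶ T.left} {W : S.Etale} {b : V ⟶ W.left} {hb : b ≫ W.hom = c ≫ T.hom}
    {a : F.obj.obj (op W)} (h : IsRep F σ c W b hb a) {V' : Scheme.{u}} (c' : V' ⟶ T'.left)
    (m : V' ⟶ V) (hm : m ≫ c = c' ≫ g.left) :
    IsRep F (Basic.restr F g σ) c' W (m ≫ b) (by
      rw [Category.assoc, hb, ← Category.assoc, hm, Category.assoc, Over.w g]) a := by
  intro Ω _ _ η ξ hξ l hl
  refine (h Ω η (ξ ≫ g.left) _ (l ≫ m) (by rw [Category.assoc, hm, ← Category.assoc, hl])).trans ?_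
  exact congrArg (fun r => germ F η W r a) (Over.OverMorphism.ext (Category.assoc _ _ _))

theorem IsLocRep.restr {T T' : Over S} (g : T' ⟶ T) {σ : Germs F T} (hσ : IsLocRep F σ) :
    IsLocRep F (Basic.restr F g σ) := by
  intro t'
  obtain ⟨V, c, hc, W, b, hb, a, ⟨v, hv⟩, h⟩ := hσ (g.left.base t')
  obtain ⟨z, -, hz⟩ := Scheme.Pullback.exists_preimage_pullback (f := c) (g := g.left) v t' hv
  exact ⟨pullback c g.left, pullback.snd c g.left, inferInstance, W, _, _, a, ⟨z, hz⟩,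
    h.restr F g (pullback.snd c g.left) (pullback.fst c g.left) pullback.condition⟩

/-- The presheaf of locally representable functions. -/
def presheaf : (Over S)ᵒᵖ ⥤ AddCommGrpCat.{u + 1} where
  obj T := AddCommGrpCat.of (sect F T.unop)
  map g := AddCommGrpCat.ofHom (((restr F g.unop).comp (sect F _).subtype).codRestrict _
    fun σ => IsLocRep.restr F g.unop σ.2)
  map_id T := by
    refine AddCommGrpCat.hom_ext (AddMonoidHom.ext fun σ => Subtype.ext ?_)
    funext x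
    obtain ⟨Ω, η, ξ, h⟩ := x
    change σ.1 ⟨Ω, η, ξ ≫ 𝟙 _, _⟩ = σ.1 ⟨Ω, η, ξ, _⟩
    congr 2
  map_comp g g' := by
    refine AddCommGrpCat.hom_ext (AddMonoidHom.ext fun σ => Subtype.ext ?_)
    funext x
    obtain ⟨Ω, η, ξ, h⟩ := x
    change σ.1 ⟨Ω, η, ξ ≫ g'.unop.left ≫ g.unop.left, _⟩ =
      σ.1 ⟨Ω, η, (ξ ≫ g'.unop.left) ≫ g.unop.left, _⟩
    congr 2

theorem presheaf_map_apply {T T' : (Over S)ᵒᵖ} (g : T ⟶ T') (σ : (presheaf F).obj T) :
    ((presheaf F).map g σ).1 = restr F g.unop σ.1 := rfl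

/-- Compatibility with extensions of the field. -/
def CompatExt {T : Over S} (σ : Germs F T) : Prop :=
  ∀ (Ω : Type u) [Field Ω] [IsSepClosed Ω] (η : Spec (CommRingCat.of Ω) ⟶ S)
    (ξ : Spec (CommRingCat.of Ω) ⟶ T.left) (h : ξ ≫ T.hom = η)
    (Ω' : Type u) [Field Ω'] [IsSepClosed Ω'] (η' : Spec (CommRingCat.of Ω') ⟶ S)
    (φ : Spec (CommRingCat.of Ω') ⟶ Spec (CommRingCat.of Ω)) (hφ : φ ≫ η = η')
    (ξ' : Spec (CommRingCat.of Ω') ⟶ T.left) (h' : ξ' ≫ T.hom = η') (_ : φ ≫ ξ = ξ'),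
    σ ⟨Ω', η', ξ', h'⟩ = extStk F φ hφ (σ ⟨Ω, η, ξ, h⟩)

theorem IsLocRep.compatExt {T : Over S} {σ : Germs F T} (hσ : IsLocRep F σ) : CompatExt F σ := by
  intro Ω _ _ η ξ h Ω' _ _ η' φ hφ ξ' h' hξ'
  obtain ⟨V, c, hc, W, b, hb, a, ⟨v, hv⟩, hrep⟩ := hσ (ξ.base default)
  obtain ⟨l, hl, -⟩ := Scheme.exists_fac_of_etale_of_isSepClosed c ξ v hv
  rw [hrep Ω η ξ h l hl, hrep Ω' η' ξ' h' (φ ≫ l) (by rw [Category.assoc, hl, hξ']), extStk_germ]
  exact congrArg (fun r => germ F η' W r a) (Over.OverMorphism.ext (Category.assoc _ _ _))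

end Groth.Agent.Lib.EtGerm.Basic
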