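import Groth.Agent.Lib.EtGerm.Sheaf
import Groth.Prelude.Def_BigSite

/-!
The inverse image of a sheaf of the small etale site to a big site between the etale and the fpqc one
is the sheaf of locally representable functions on geometric points.
-/

set_option autoImplicit false

universe u

open CategoryTheory CategoryTheory.Limits AlgebraicGeometry Opposite

noncomputable section

namespace Groth.Agent.Lib.EtGerm.Univ

open Groth.Agent.Lib.EtSite Groth.Agent.Lib.EtSite.Basic Groth.Agent.Lib.EtGerm.Basic

variable (K : Precoverage Scheme.{u}) {S : Scheme.{u}} (F : EtCoh.Ab S)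

/-- Etale coverings cover. -/
theorem ofArrows_mem (hK : Scheme.etalePrecoverage ≤ K) {T : Over S} {ι : Type (u + 1)}
    (Z : ι → Over S) (g : ∀ i, Z i ⟶ T) (hg : ∀ i, Etale (g i).left)
    (hsurj : ∀ t : T.left, ∃ i, t ∈ Set.range (g i).left.base) :
    Sieve.ofArrows Z g ∈ QuotSh.J K S T := by
  rw [GrothendieckTopology.mem_over_iff, Sieve.overEquiv_ofArrows]
  refine Precoverage.toGrothendieck_mono hK _ ?_
  exact Precoverage.generate_mem_toGrothendieck
    ((Scheme.ofArrows_mem_precoverage_iff _).2 ⟨hsurj, hg⟩)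

/-- The function attached to a section. -/
def ofSection (U : S.Etale) : F.obj.obj (op U) →+ sect F ((EtFppf.a S).obj U) where
  toFun a := ⟨fun x => germ F x.η U (mkFiber x.η U x.ξ x.comm) a, fun t =>
    ⟨U.left, 𝟙 _, MorphismProperty.id_mem (@Etale) _, U, 𝟙 _, rfl, a, ⟨t, rfl⟩, fun Ω _ _ η ξ h l hl =>
      congrArg (fun r => germ F η U r a) (Over.OverMorphism.ext hl.symm)⟩⟩
  map_zero' := Subtype.ext (funext fun x => map_zero _)
  map_add' a a' := Subtype.ext (funext fun x => map_add _ a a')

/-- The presheaf as a sheaf on the big site. -/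
def shP (hK₂ : K ≤ Scheme.fpqcPrecoverage) : BigSite.Ab K S :=
  ⟨presheaf F, Presheaf.IsSheaf.of_le
    (fun _ _ h => by
      rw [GrothendieckTopology.mem_over_iff] at h ⊢
      exact Precoverage.toGrothendieck_mono hK₂ _ h)
    (Sheaf.isSheaf_presheaf F)⟩

variable [BigSite.AEtCont K S] (hK₁ : Scheme.etalePrecoverage ≤ K)
  (hK₂ : K ≤ Scheme.fpqcPrecoverage)

/-- The unit into the restriction of the presheaf. -/
def unitP : F ⟶ (BigSite.resEt K S).obj (shP K F hK₂) :=
  Sheaf.homEquiv.symm
    { app := fun U => AddCommGrpCat.ofHom (ofSection F U.unop)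
      naturality := fun U U' g => AddCommGrpCat.hom_ext (AddMonoidHom.ext fun a =>
        Subtype.ext (funext fun x => (germ_map F x.η g.unop _ a).trans
          (congrArg (fun r => germ F x.η U.unop r a) (Over.OverMorphism.ext rfl)))) }

/-- The comparison map. -/
def comp : (BigSite.piEtPull K S).obj F ⟶ shP K F hK₂ :=
  ((BigSite.piEtAdj K S).homEquiv _ _).symm (unitP K F hK₂)

/-- The unit of the adjunction on sections. -/
def unitL (U : S.Etale) (a : F.obj.obj (op U)) :
    ((BigSite.piEtPull K S).obj F).obj.obj (op ((EtFppf.a S).obj U)) :=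
  ((BigSite.piEtAdj K S).unit.app F).hom.app (op U) a

theorem unitL_map {U U' : S.Etale} (g : U' ⟶ U) (a : F.obj.obj (op U)) :
    unitL K F U' (F.obj.map g.op a) =
      ((BigSite.piEtPull K S).obj F).obj.map ((EtFppf.a S).map g).op (unitL K F U a) :=
  NatTrans.naturality_apply ((BigSite.piEtAdj K S).unit.app F).hom g.op a

theorem comp_unitL (U : S.Etale) (a : F.obj.obj (op U)) :
    (comp K F hK₂).hom.app (op ((EtFppf.a S).obj U)) (unitL K F U a) = ofSection F U a := by
  have h : (BigSite.piEtAdj K S).unit.app F ≫ (BigSite.resEt K S).map (comp K F hK₂) =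
      unitP K F hK₂ := by
    exact ((BigSite.piEtAdj K S).homEquiv_unit _ _ _).symm.trans (Equiv.apply_symm_apply _ _)
  exact ConcreteCategory.congr_hom (congrArg (fun φ => φ.hom.app (op U)) h) a

theorem map_congr {C : Type*} [Category C] (P : Cᵒᵖ ⥤ AddCommGrpCat.{u + 1}) {V W : C}
    {a b : V ⟶ W} (h : a = b) (x : P.obj (op W)) : P.map a.op x = P.map b.op x := by rw [h]

theorem map_map {C : Type*} [Category C] (P : Cᵒᵖ ⥤ AddCommGrpCat.{u + 1}) {V W W' : C}
    (a : V ⟶ W) (b : W ⟶ W') (x : P.obj (op W')) :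
    P.map a.op (P.map b.op x) = P.map (a ≫ b).op x := by
  rw [op_comp, P.map_comp, ConcreteCategory.comp_apply]

theorem sections_ext (hK₁ : Scheme.etalePrecoverage ≤ K) (L : BigSite.Ab K S) {T : Over S}
    {ι : Type (u + 1)} (Z : ι → Over S) (g : ∀ i, Z i ⟶ T) (hg : ∀ i, Etale (g i).left)
    (hsurj : ∀ t : T.left, ∃ i, t ∈ Set.range (g i).left.base) (x y : L.obj.obj (op T))
    (h : ∀ i, L.obj.map (g i).op x = L.obj.map (g i).op y) : x = y := by
  refine ((((isSheaf_iff_isSheaf_of_type _ _).1 (Presheaf.isSheaf_comp_of_isSheaf _ L.obj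
    (forget AddCommGrpCat.{u + 1}) L.property)) _
      (ofArrows_mem K hK₁ Z g hg hsurj)).isSeparatedFor).ext ?_
  rintro W _ ⟨V, c, _, ⟨i⟩, rfl⟩
  change L.obj.map (c ≫ g i).op x = L.obj.map (c ≫ g i).op y
  rw [← map_map, ← map_map, h i]

include hK₁ in
/-- Two local descriptions of the same function give the same section. -/
theorem eq_of_same {Z : Over S} {W₁ W₂ : S.Etale} (m₁ : Z ⟶ (EtFppf.a S).obj W₁)
    (m₂ : Z ⟶ (EtFppf.a S).obj W₂) (a₁ : F.obj.obj (op W₁)) (a₂ : F.obj.obj (op W₂))
    (h : (presheaf F).map m₁.op (ofSection F W₁ a₁) = (presheaf F).map m₂.op (ofSection F W₂ a₂)) :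
    ((BigSite.piEtPull K S).obj F).obj.map m₁.op (unitL K F W₁ a₁) =
      ((BigSite.piEtPull K S).obj F).obj.map m₂.op (unitL K F W₂ a₂) := by
  classical
  let W := prodEt W₁ W₂
  let m : Z ⟶ (EtFppf.a S).obj W := Over.homMk
    (pullback.lift m₁.left m₂.left ((Over.w m₁).trans (Over.w m₂).symm)) (by
      change pullback.lift m₁.left m₂.left _ ≫ pullback.fst W₁.hom W₂.hom ≫ W₁.hom = Z.hom
      rw [← Category.assoc]
      exact (congrArg (· ≫ W₁.hom) (pullback.lift_fst _ _ _)).trans (Over.w m₁))
  have e₁ : m ≫ (EtFppf.a S).map (prodFst W₁ W₂) = m₁ :=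
    Over.OverMorphism.ext (pullback.lift_fst _ _ _)
  have e₂ : m ≫ (EtFppf.a S).map (prodSnd W₁ W₂) = m₂ :=
    Over.OverMorphism.ext (pullback.lift_snd _ _ _)
  have hA : ∀ z : Z.left, m.left.base z ∈
      agree F W (F.obj.map (prodFst W₁ W₂).op a₁) (F.obj.map (prodSnd W₁ W₂).op a₂) := by
    intro z
    let ξ := Push.algPoint Z.left z
    have hh : germ F (ξ ≫ Z.hom) W₁ (mkFiber _ W₁ (ξ ≫ m₁.left)
          ((Category.assoc _ _ _).trans (congrArg (ξ ≫ ·) (Over.w m₁)))) a₁ =
        germ F (ξ ≫ Z.hom) W₂ (mkFiber _ W₂ (ξ ≫ m₂.left)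
          ((Category.assoc _ _ _).trans (congrArg (ξ ≫ ·) (Over.w m₂)))) a₂ :=
      congrFun (congrArg Subtype.val h) ⟨_, ξ ≫ Z.hom, ξ, rfl⟩
    let r : (Scheme.pointSmallEtale (ξ ≫ Z.hom)).fiber.obj W :=
      mkFiber _ W (ξ ≫ m.left) ((Category.assoc _ _ _).trans (congrArg (ξ ≫ ·) (Over.w m)))
    have hr : fiberPt r = m.left.base z := by
      change m.left.base (ξ.base default) = _
      rw [Push.algPoint_apply]
    rw [← hr]
    refine (germ_eq_iff F _ W r _ _).1 ?_
    rw [germ_map, germ_map]
    refine Eq.trans ?_ (hh.trans ?_)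
    · exact congrArg (fun q => germ F _ W₁ q a₁) (Over.OverMorphism.ext
        ((Category.assoc _ _ _).trans (congrArg (ξ ≫ ·) (pullback.lift_fst _ _ _))))
    · exact congrArg (fun q => germ F _ W₂ q a₂) (Over.OverMorphism.ext
        ((Category.assoc _ _ _).trans (congrArg (ξ ≫ ·) (pullback.lift_snd _ _ _))).symm)
  choose W' q hq hz using hA
  have hqe : ∀ z, Etale (q z).left := fun z => Fiber.etale_left (q z)
  let ml : Z.left ⟶ W.left := m.left
  let Zc : Z.left → Over S := fun z => Over.mk (pullback.fst ml (q z).left ≫ Z.hom)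
  refine sections_ext K hK₁ _ (ι := ULift.{u + 1} Z.left) (fun z => Zc z.down)
    (fun z => Over.homMk (pullback.fst ml (q z.down).left) rfl)
    (fun z => (inferInstance : Etale (pullback.fst ml (q z.down).left))) (fun z => ?_) _ _
    (fun z => ?_)
  · obtain ⟨w, hw⟩ := hz z
    obtain ⟨p, hp, -⟩ := Scheme.Pullback.exists_preimage_pullback (f := ml) (g := (q z).left)
      z w hw.symm
    exact ⟨⟨z⟩, p, hp⟩
  · let g : Zc z.down ⟶ Z := Over.homMk (pullback.fst ml (q z.down).left) rfl
    let n : Zc z.down ⟶ (EtFppf.a S).obj (W' z.down) :=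
      Over.homMk (pullback.snd ml (q z.down).left) (by
        change pullback.snd ml (q z.down).left ≫ (W' z.down).hom =
          pullback.fst ml (q z.down).left ≫ Z.hom
        rw [← Over.w m, ← Category.assoc]
        refine Eq.trans ?_ (congrArg (· ≫ W.hom) pullback.condition).symm
        exact ((Category.assoc _ _ _).trans
          (congrArg (pullback.snd ml (q z.down).left ≫ ·) (Over.w (q z.down).hom))).symm)
    have e : g ≫ m = n ≫ (EtFppf.a S).map (q z.down) :=
      Over.OverMorphism.ext pullback.condition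
    have key : ∀ y : F.obj.obj (op W),
        ((BigSite.piEtPull K S).obj F).obj.map g.op
            (((BigSite.piEtPull K S).obj F).obj.map m.op (unitL K F W y)) =
          ((BigSite.piEtPull K S).obj F).obj.map n.op (unitL K F _ (F.obj.map (q z.down).op y)) :=
      fun y => by rw [map_map, map_congr _ e, ← map_map, unitL_map]
    rw [← e₁, ← e₂, ← map_map _ m, ← map_map _ m, ← unitL_map, ← unitL_map]
    exact (key _).trans ((congrArg
      (fun y => ((BigSite.piEtPull K S).obj F).obj.map n.op (unitL K F _ y)) (hq z.down)).trans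
      (key _).symm)

/-- A local description of a function. -/
structure LocData {T : Over S} (σ : sect F T) (t : T.left) : Type (u + 1) where
  /-- the neighbourhood -/
  Z : Over S
  /-- its map -/
  g : Z ⟶ T
  etale : Etale g.left
  mem : t ∈ Set.range g.left.base
  /-- the etale scheme carrying the section -/
  W : S.Etale
  /-- the map to it -/
  m : Z ⟶ (EtFppf.a S).obj W
  /-- the section -/
  a : F.obj.obj (op W)
  eq : (presheaf F).map g.op σ = (presheaf F).map m.op (ofSection F W a)

theorem nonempty_locData {T : Over S} (σ : sect F T) (t : T.left) :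
    Nonempty (LocData F σ t) := by
  obtain ⟨V, c, hc, W, b, hb, a, ht, h⟩ := σ.2 t
  refine ⟨⟨Over.mk (c ≫ T.hom), Over.homMk c, hc, ht, W, Over.homMk b hb, a,
    Subtype.ext (funext fun x => ?_)⟩⟩
  exact (h x.Ω x.η (x.ξ ≫ c) _ x.ξ rfl).trans
    (congrArg (fun r => germ F x.η W r a) (Over.OverMorphism.ext rfl))

include hK₁ in
theorem exists_back {T : Over S} (σ : sect F T) :
    ∃ y : ((BigSite.piEtPull K S).obj F).obj.obj (op T),
      ∀ (Z : Over S) (g : Z ⟶ T) (W : S.Etale) (m : Z ⟶ (EtFppf.a S).obj W)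
        (a : F.obj.obj (op W)), (presheaf F).map g.op σ = (presheaf F).map m.op (ofSection F W a) →
        ((BigSite.piEtPull K S).obj F).obj.map g.op y =
          ((BigSite.piEtPull K S).obj F).obj.map m.op (unitL K F W a) := by
  classical
  let L := (BigSite.piEtPull K S).obj F
  let d := fun t : T.left => (nonempty_locData F σ t).some
  let ι : Type (u + 1) := ULift.{u + 1} T.left
  have hS := (Presieve.isSheafFor_arrows_iff (L.obj ⋙ forget AddCommGrpCat.{u + 1})
    (fun t : ι => (d t.down).g)).1 ((Presieve.isSheafFor_iff_generate _).2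
      (((isSheaf_iff_isSheaf_of_type _ _).1 (Presheaf.isSheaf_comp_of_isSheaf _ L.obj
        (forget AddCommGrpCat.{u + 1}) L.property)) _
        (ofArrows_mem K hK₁ (fun t : ι => (d t.down).Z) _ (fun t => (d t.down).etale)
          fun t => ⟨⟨t⟩, (d t).mem⟩)))
  obtain ⟨y, hy, -⟩ := hS (fun t => L.obj.map (d t.down).m.op (unitL K F _ (d t.down).a))
    fun i j Z gi gj e => by
      change L.obj.map gi.op (L.obj.map (d i.down).m.op (unitL K F _ (d i.down).a)) =
        L.obj.map gj.op (L.obj.map (d j.down).m.op (unitL K F _ (d j.down).a))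
      rw [map_map, map_map]
      refine eq_of_same K F hK₁ _ _ _ _ ?_
      rw [← map_map, ← map_map, ← (d i.down).eq, ← (d j.down).eq, map_map, map_map, map_congr _ e]
  refine ⟨y, fun Z g W m a h => ?_⟩
  let Zt : T.left → Over S := fun t => Over.mk (pullback.snd (d t).g.left g.left ≫ Z.hom)
  refine sections_ext K hK₁ L (ι := ι) (fun t => Zt t.down)
    (fun t => Over.homMk (pullback.snd (d t.down).g.left g.left) rfl)
    (fun t => have := (d t.down).etale
      (inferInstance : Etale (pullback.snd (d t.down).g.left g.left))) (fun z => ?_) _ _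
    (fun t => ?_)
  · obtain ⟨v, hv⟩ := (d (g.left.base z)).mem
    obtain ⟨p, -, hp⟩ := Scheme.Pullback.exists_preimage_pullback
      (f := (d (g.left.base z)).g.left) (g := g.left) v z hv
    exact ⟨⟨g.left.base z⟩, p, hp⟩
  · let s : Zt t.down ⟶ Z := Over.homMk (pullback.snd (d t.down).g.left g.left) rfl
    let f₁ : Zt t.down ⟶ (d t.down).Z :=
      Over.homMk (pullback.fst (d t.down).g.left g.left) (by
        change pullback.fst (d t.down).g.left g.left ≫ (d t.down).Z.hom =
          pullback.snd (d t.down).g.left g.left ≫ Z.hom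
        rw [← Over.w (d t.down).g, ← Over.w g, pullback.condition_assoc])
    have e : s ≫ g = f₁ ≫ (d t.down).g := Over.OverMorphism.ext pullback.condition.symm
    change L.obj.map s.op (L.obj.map g.op y) = L.obj.map s.op (L.obj.map m.op (unitL K F W a))
    rw [map_map, map_congr _ e, ← map_map]
    refine (congrArg (L.obj.map f₁.op) (hy t)).trans ?_
    rw [map_map, map_map]
    refine eq_of_same K F hK₁ _ _ _ _ ?_
    rw [← map_map, ← map_map, ← (d t.down).eq, ← h, map_map, map_map, map_congr _ e]

/-- The inverse of the comparison map on one object. -/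
def back (T : Over S) (σ : sect F T) : ((BigSite.piEtPull K S).obj F).obj.obj (op T) :=
  (exists_back K F hK₁ σ).choose

theorem back_spec {T : Over S} (σ : sect F T) {Z : Over S} (g : Z ⟶ T) {W : S.Etale}
    (m : Z ⟶ (EtFppf.a S).obj W) (a : F.obj.obj (op W))
    (h : (presheaf F).map g.op σ = (presheaf F).map m.op (ofSection F W a)) :
    ((BigSite.piEtPull K S).obj F).obj.map g.op (back K F hK₁ T σ) =
      ((BigSite.piEtPull K S).obj F).obj.map m.op (unitL K F W a) :=
  (exists_back K F hK₁ σ).choose_spec Z g W m a h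

include hK₁ in
theorem isIso_comp : IsIso (comp K F hK₂) := by
  classical
  let L := (BigSite.piEtPull K S).obj F
  have hback : ∀ (T : Over S) (σ : sect F T), (comp K F hK₂).hom.app (op T) (back K F hK₁ T σ) = σ := by
    intro T σ
    let d := fun t : T.left => (nonempty_locData F σ t).some
    refine sections_ext K hK₁ (shP K F hK₂) (fun t : ULift.{u + 1} T.left => (d t.down).Z)
      (fun t => (d t.down).g) (fun t => (d t.down).etale) (fun t => ⟨⟨t⟩, (d t).mem⟩) _ _ fun t => ?_
    refine (NatTrans.naturality_apply (comp K F hK₂).hom (d t.down).g.op _).symm.trans ?_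
    rw [back_spec K F hK₁ σ (d t.down).g (d t.down).m (d t.down).a (d t.down).eq]
    refine (NatTrans.naturality_apply (comp K F hK₂).hom (d t.down).m.op _).trans ?_
    rw [comp_unitL]
    exact (d t.down).eq.symm
  have hnat : ∀ {T T' : Over S} (h : T' ⟶ T) (σ : sect F T),
      L.obj.map h.op (back K F hK₁ T σ) = back K F hK₁ T' ((presheaf F).map h.op σ) := by
    intro T T' h σ
    let d := fun t : T'.left => (nonempty_locData F ((presheaf F).map h.op σ) t).some
    refine sections_ext K hK₁ L (fun t : ULift.{u + 1} T'.left => (d t.down).Z)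
      (fun t => (d t.down).g) (fun t => (d t.down).etale) (fun t => ⟨⟨t⟩, (d t).mem⟩) _ _ fun t => ?_
    rw [map_map]
    exact (back_spec K F hK₁ σ _ _ _ ((map_map (presheaf F) _ h σ).symm.trans (d t.down).eq)).trans
      (back_spec K F hK₁ _ _ _ _ (d t.down).eq).symm
  have hadd : ∀ (T : Over S) (σ τ : sect F T),
      back K F hK₁ T (σ + τ) = back K F hK₁ T σ + back K F hK₁ T τ := by
    intro T σ τ
    let d := fun t : T.left => (nonempty_locData F σ t).some
    let g₁ := fun t : T.left => (d t).g
    let d' := fun (t : T.left) (z : (d t).Z.left) =>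
      (nonempty_locData F ((presheaf F).map (d t).g.op τ) z).some
    let ι := Σ t : ULift.{u + 1} T.left, ULift.{u + 1} (d t.down).Z.left
    refine sections_ext K hK₁ L (fun i : ι => (d' i.1.down i.2.down).Z)
      (fun i => (d' i.1.down i.2.down).g ≫ (d i.1.down).g) (fun i => ?_) (fun t => ?_) _ _
      fun i => ?_
    · have := (d' i.1.down i.2.down).etale
      have := (d i.1.down).etale
      exact (inferInstance : Etale ((d' i.1.down i.2.down).g.left ≫ (d i.1.down).g.left))
    · obtain ⟨z, hz⟩ := (d t).mem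
      obtain ⟨w, hw⟩ := (d' t z).mem
      exact ⟨⟨⟨t⟩, ⟨z⟩⟩, w, (congrArg (d t).g.left.base hw).trans hz⟩
    · let D := d i.1.down
      let D' := d' i.1.down i.2.down
      let k := D'.g ≫ D.g
      let W := prodEt D.W D'.W
      let mm : D'.Z ⟶ (EtFppf.a S).obj W := Over.homMk
        (pullback.lift (D'.g ≫ D.m).left D'.m.left
          ((Over.w (D'.g ≫ D.m)).trans (Over.w D'.m).symm)) (by
          change pullback.lift (D'.g ≫ D.m).left D'.m.left _ ≫
            pullback.fst D.W.hom D'.W.hom ≫ D.W.hom = D'.Z.hom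
          rw [← Category.assoc]
          exact (congrArg (· ≫ D.W.hom) (pullback.lift_fst _ _ _)).trans (Over.w (D'.g ≫ D.m)))
      have e₁ : mm ≫ (EtFppf.a S).map (prodFst D.W D'.W) = D'.g ≫ D.m :=
        Over.OverMorphism.ext (pullback.lift_fst _ _ _)
      have e₂ : mm ≫ (EtFppf.a S).map (prodSnd D.W D'.W) = D'.m :=
        Over.OverMorphism.ext (pullback.lift_snd _ _ _)
      have hofmap : ∀ {U U' : S.Etale} (q : U' ⟶ U) (a : F.obj.obj (op U)),
          ofSection F U' (F.obj.map q.op a) =
            (presheaf F).map ((EtFppf.a S).map q).op (ofSection F U a) := fun q a =>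
        NatTrans.naturality_apply (unitP K F hK₂).hom q.op a
      have hσ' : (presheaf F).map k.op σ = (presheaf F).map mm.op
          (ofSection F W (F.obj.map (prodFst D.W D'.W).op D.a)) := by
        rw [hofmap, map_map, e₁, ← map_map _ D'.g D.g, D.eq, map_map]
      have hτ' : (presheaf F).map k.op τ = (presheaf F).map mm.op
          (ofSection F W (F.obj.map (prodSnd D.W D'.W).op D'.a)) := by
        rw [hofmap, map_map, e₂, ← map_map _ D'.g D.g]
        exact D'.eq
      have hστ : (presheaf F).map k.op (σ + τ) = (presheaf F).map mm.op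
          (ofSection F W (F.obj.map (prodFst D.W D'.W).op D.a +
            F.obj.map (prodSnd D.W D'.W).op D'.a)) := by
        rw [map_add]
        erw [map_add, map_add, hσ', hτ']
      rw [map_add, back_spec K F hK₁ _ k mm _ hστ, back_spec K F hK₁ _ k mm _ hσ',
        back_spec K F hK₁ _ k mm _ hτ']
      simp only [unitL, map_add]
      exact map_add _ _ _
  let θ : shP K F hK₂ ⟶ L := Sheaf.homEquiv.symm
    { app := fun T => AddCommGrpCat.ofHom
        (AddMonoidHom.mk' (back K F hK₁ T.unop) (hadd T.unop))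
      naturality := fun T T' h => AddCommGrpCat.hom_ext (AddMonoidHom.ext fun σ =>
        (hnat h.unop σ).symm) }
  have h₁ : comp K F hK₂ ≫ θ = 𝟙 L := by
    apply ((BigSite.piEtAdj K S).homEquiv _ _).injective
    rw [Adjunction.homEquiv_unit, Adjunction.homEquiv_unit]
    ext U a
    change back K F hK₁ ((EtFppf.a S).obj U.unop)
      ((comp K F hK₂).hom.app (op ((EtFppf.a S).obj U.unop)) (unitL K F U.unop a)) =
        unitL K F U.unop a
    rw [comp_unitL]
    have h := back_spec K F hK₁ (ofSection F U.unop a) (𝟙 _) (𝟙 _) a rfl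
    rw [op_id, CategoryTheory.Functor.map_id] at h
    exact h
  have h₂ : θ ≫ comp K F hK₂ = 𝟙 _ := by
    ext T σ
    exact hback T.unop σ
  exact ⟨θ, h₁, h₂⟩

end Groth.Agent.Lib.EtGerm.Univ
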