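import Groth.Agent.Lib.EtGerm.Univ
import Groth.Agent.Lib.EtSubmersive.Basic

/-!
Locally representable functions on the geometric points of an `S`-scheme are the global sections of
the inverse image to its small etale site.
-/

set_option autoImplicit false

universe u

open CategoryTheory CategoryTheory.Limits AlgebraicGeometry Opposite

noncomputable section

namespace Groth.Agent.Lib.EtGerm.Compare

open Groth.Agent.Lib.EtSite Groth.Agent.Lib.EtSite.Basic Groth.Agent.Lib.EtSite.PushStalk
  Groth.Agent.Lib.EtGerm.Basic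

open Groth.Agent.Lib.EtSubmersive.Basic (G unitApp germUnit bijective_germUnit germUnit_germ)

variable {S : Scheme.{u}} (F : EtCoh.Ab S) (T : Over S)

/-- Global sections of the inverse image. -/
abbrev Gam : Type (u + 1) := (G T.hom F).obj.obj (op (EtCoh.top T.left))

/-- Stalk of the inverse image. -/
abbrev StkG {Ω : Type u} [Field Ω] [IsSepClosed Ω] (ξ : Spec (CommRingCat.of Ω) ⟶ T.left) :
    Type (u + 1) :=
  ((Scheme.pointSmallEtale ξ).presheafFiber.obj (G T.hom F).obj : AddCommGrpCat.{u + 1})

/-- The stalk of the inverse image is the stalk. -/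
def stkEquiv (x : GPt T) : Stk F x.η ≃+ StkG F T x.ξ :=
  AddEquiv.ofBijective (germUnit T.hom F x.comm).hom (bijective_germUnit T.hom F x.comm)

/-- The point of the final object over a geometric point. -/
def topPt {Ω : Type u} [Field Ω] [IsSepClosed Ω] (ξ : Spec (CommRingCat.of Ω) ⟶ T.left) :
    (Scheme.pointSmallEtale ξ).fiber.obj (EtCoh.top T.left) :=
  mkFiber ξ _ ξ (Category.comp_id _)

theorem eq_topPt {Ω : Type u} [Field Ω] [IsSepClosed Ω] {ξ : Spec (CommRingCat.of Ω) ⟶ T.left}
    (p : (Scheme.pointSmallEtale ξ).fiber.obj (EtCoh.top T.left)) : p = topPt T ξ :=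
  Over.OverMorphism.ext ((Category.comp_id _).symm.trans (fiberHom_comp p))

/-- The map to the final object. -/
abbrev toT (V : T.left.Etale) : V ⟶ EtCoh.top T.left :=
  MorphismProperty.Over.homMk V.hom (Category.comp_id _)

/-- Germ of a global section. -/
def germAt (x : GPt T) : Gam F T →+ StkG F T x.ξ :=
  ((Scheme.pointSmallEtale x.ξ).toPresheafFiber _ (topPt T x.ξ) (G T.hom F).obj).hom

theorem germ_toT (x : GPt T) {V : T.left.Etale} (q : (Scheme.pointSmallEtale x.ξ).fiber.obj V)
    (t : Gam F T) :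
    (Scheme.pointSmallEtale x.ξ).toPresheafFiber V q (G T.hom F).obj
        ((G T.hom F).obj.map (toT T V).op t) = germAt F T x t := by
  refine ((Scheme.pointSmallEtale x.ξ).toPresheafFiber_w_apply (toT T V) q _ t).trans ?_
  rw [eq_topPt T ((Scheme.pointSmallEtale x.ξ).fiber.map (toT T V) q)]
  rfl

/-- The function on geometric points of a global section. -/
def toGerms : Gam F T →+ Germs F T where
  toFun t := fun x => (stkEquiv F T x).symm (germAt F T x t)
  map_zero' := funext fun x => by rw [map_zero, map_zero]; rfl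
  map_add' t t' := funext fun x => by rw [map_add, map_add]; rfl

theorem isLocRep_toGerms (t : Gam F T) : IsLocRep F (toGerms F T t) := by
  intro τ
  let x : GPt T := ⟨_, Push.algPoint T.left τ ≫ T.hom, Push.algPoint T.left τ, rfl⟩
  obtain ⟨W, p, a, hy⟩ := exists_germ F (toGerms F T t x)
  have hy' : stkEquiv F T x (germ F x.η W p a) = germAt F T x t :=
    (AddEquiv.eq_symm_apply _).1 hy
  have hy'' := (germUnit_germ T.hom F x.comm W p a).symm.trans hy'
  rw [← germ_toT F T x (liftPt T.hom x.comm W p) t] at hy''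
  obtain ⟨W', g, heq, v, hv⟩ := (BaseChange.toPresheafFiber_eq_iff_mem _ _ _ _ _).1 hy''
  have hb : (g.left ≫ pullback.fst W.hom T.hom) ≫ W.hom = W'.hom ≫ T.hom :=
    (Category.assoc _ _ _).trans ((congrArg (g.left ≫ ·) pullback.condition).trans
      ((Category.assoc _ _ _).symm.trans (congrArg (· ≫ T.hom) (Over.w g.hom))))
  refine ⟨W'.left, W'.hom, W'.prop, W, g.left ≫ pullback.fst W.hom T.hom, hb, a, ⟨v, ?_⟩, ?_⟩
  · have e := congrArg (fun m => m.base v) (Over.w g.hom)
    refine e.symm.trans ((congrArg ((EtCoh.bc T.hom).obj W).hom.base hv).trans ?_)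
    exact (hom_fiberPt _).trans (Push.algPoint_apply _ τ default)
  · intro Ω _ _ η ξ h l hl
    let x' : GPt T := ⟨Ω, η, ξ, h⟩
    change (stkEquiv F T x').symm (germAt F T x' t) = _
    rw [AddEquiv.symm_apply_eq]
    refine Eq.trans ?_ (germUnit_germ T.hom F h W _ a).symm
    let q := mkFiber ξ W' l hl
    have e : (Scheme.pointSmallEtale ξ).fiber.map g q = liftPt T.hom h W
        (ptOf hb h l hl) := by
      refine Over.OverMorphism.ext (pullback.hom_ext ?_ ?_)
      · exact (Category.assoc _ _ _).trans (pullback.lift_fst _ _ _).symm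
      · exact (Category.assoc _ _ _).trans ((congrArg (l ≫ ·) (Over.w g.hom)).trans
          (hl.trans (pullback.lift_snd _ _ _).symm))
    rw [← germ_toT F T x' q t, ← e]
    refine Eq.trans ?_ ((Scheme.pointSmallEtale ξ).toPresheafFiber_w_apply g q _ _)
    rw [heq, Univ.map_map]
    refine congrArg (fun r : W' ⟶ EtCoh.top T.left =>
      (Scheme.pointSmallEtale ξ).toPresheafFiber W' q (G T.hom F).obj
        ((G T.hom F).obj.map r.op t)) ?_
    exact MorphismProperty.Over.Hom.ext ((Category.comp_id _).symm.trans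
      ((Category.comp_id _).trans (Over.w g.hom).symm))

theorem germAt_injective (t t' : Gam F T) (h : ∀ x : GPt T, germAt F T x t = germAt F T x t') :
    t = t' := by
  refine Stalk.sections_ext_of_germ (G T.hom F) t t' (Stalk.enoughPts_pt fun τ p => ?_)
  rw [eq_topPt T p]
  exact h ⟨_, geomPoint T.left τ ≫ T.hom, geomPoint T.left τ, rfl⟩

theorem toGerms_injective : Function.Injective (toGerms F T) := fun t t' h =>
  germAt_injective F T t t' fun x => (stkEquiv F T x).symm.injective (congrFun h x)

variable {F T}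

/-- A local description, as a section of the inverse image. -/
theorem exists_local (σ : sect F T) (τ : T.left) :
    ∃ (V : T.left.Etale) (s : (G T.hom F).obj.obj (op V)), τ ∈ Set.range V.hom.base ∧
      ∀ (x : GPt T) (q : (Scheme.pointSmallEtale x.ξ).fiber.obj V),
        (Scheme.pointSmallEtale x.ξ).toPresheafFiber V q (G T.hom F).obj s =
          stkEquiv F T x (σ.1 x) := by
  obtain ⟨V₀, c, hc, W, b, hb, a, hτ, hrep⟩ := σ.2 τ
  let V : T.left.Etale := Scheme.Etale.mk c
  let κ : V ⟶ (EtCoh.bc T.hom).obj W :=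
    MorphismProperty.Over.homMk (pullback.lift b c hb) (pullback.lift_snd _ _ _)
  refine ⟨V, (G T.hom F).obj.map κ.op (unitApp T.hom F W a), hτ, fun x q => ?_⟩
  refine ((Scheme.pointSmallEtale x.ξ).toPresheafFiber_w_apply κ q _ _).trans ?_
  have e : (Scheme.pointSmallEtale x.ξ).fiber.map κ q =
      liftPt T.hom x.comm W (ptOf hb x.comm (fiberHom q) (fiberHom_comp q)) := by
    refine Over.OverMorphism.ext (pullback.hom_ext ?_ ?_)
    · exact (Category.assoc _ _ _).trans
        ((congrArg (fiberHom q ≫ ·) (pullback.lift_fst _ _ _)).trans (pullback.lift_fst _ _ _).symm)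
    · exact (Category.assoc _ _ _).trans
        ((congrArg (fiberHom q ≫ ·) (pullback.lift_snd _ _ _)).trans
          ((fiberHom_comp q).trans (pullback.lift_snd _ _ _).symm))
  rw [e, ← germUnit_germ]
  exact congrArg (stkEquiv F T x) (hrep x.Ω x.η x.ξ x.comm _ _).symm

theorem exists_global (σ : sect F T) : ∃ t : Gam F T, toGerms F T t = σ.1 := by
  classical
  choose V s hmem hs using exists_local σ
  have hS := (Presieve.isSheafFor_arrows_iff ((G T.hom F).obj ⋙ forget AddCommGrpCat.{u + 1})
    (fun τ => toT T (V τ))).1 ((Presieve.isSheafFor_iff_generate _).2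
      (((isSheaf_iff_isSheaf_of_type _ _).1 (Presheaf.isSheaf_comp_of_isSheaf _ (G T.hom F).obj
        (forget AddCommGrpCat.{u + 1}) (G T.hom F).property)) _
        (ofArrows_mem V _ fun τ => by obtain ⟨v, hv⟩ := hmem τ; exact ⟨τ, v, hv⟩)))
  obtain ⟨t, ht, -⟩ := hS s fun i j Z gi gj _ => by
    refine Stalk.sections_ext_of_germ (G T.hom F) _ _ (Stalk.enoughPts_pt fun τ p => ?_)
    let x : GPt T := ⟨_, geomPoint T.left τ ≫ T.hom, geomPoint T.left τ, rfl⟩
    refine ((Scheme.pointSmallEtale x.ξ).toPresheafFiber_w_apply gi p _ (s i)).trans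
      ((hs i x ((Scheme.pointSmallEtale x.ξ).fiber.map gi p)).trans
        ((hs j x ((Scheme.pointSmallEtale x.ξ).fiber.map gj p)).symm.trans ?_))
    exact ((Scheme.pointSmallEtale x.ξ).toPresheafFiber_w_apply gj p _ (s j)).symm
  refine ⟨t, funext fun x => ?_⟩
  change (stkEquiv F T x).symm (germAt F T x t) = _
  rw [AddEquiv.symm_apply_eq]
  obtain ⟨v, hv⟩ := hmem (x.ξ.base default)
  obtain ⟨q, -⟩ := exists_fiber x.ξ (V _) v hv
  rw [← germ_toT F T x q t]
  exact (congrArg _ (ht _)).trans (hs _ x q)

variable (F T)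

/-- Locally representable functions are global sections of the inverse image. -/
def equiv : Gam F T ≃+ sect F T :=
  AddEquiv.ofBijective ((toGerms F T).codRestrict (sect F T) (isLocRep_toGerms F T))
    ⟨fun _ _ h => toGerms_injective F T (congrArg Subtype.val h), fun σ =>
      (exists_global σ).imp fun _ h => Subtype.ext h⟩

variable (K : Precoverage Scheme.{u}) [BigSite.AEtCont K S]

/-- Sections of the inverse image to the big site. -/
theorem nonempty_iso (hK₁ : Scheme.etalePrecoverage ≤ K) (hK₂ : K ≤ Scheme.fpqcPrecoverage) :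
    Nonempty (((BigSite.piEtPull K S).obj F).obj.obj (op T) ≅
      ((EtCoh.pull T.hom).obj F).obj.obj (op (EtCoh.top T.left))) :=
  have := Univ.isIso_comp K F hK₁ hK₂
  ⟨((sheafToPresheaf _ _).mapIso (asIso (Univ.comp K F hK₂))).app (op T) ≪≫
    (equiv F T).symm.toAddCommGrpIso⟩

/-- The inverse image to the big site is an fpqc sheaf. -/
theorem isSheaf_piEtPull (hK₁ : Scheme.etalePrecoverage ≤ K) (hK₂ : K ≤ Scheme.fpqcPrecoverage) :
    Presheaf.IsSheaf (QuotSh.J Scheme.fpqcPrecoverage S) ((BigSite.piEtPull K S).obj F).obj :=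
  have := Univ.isIso_comp K F hK₁ hK₂
  (Presheaf.isSheaf_of_iso_iff
    ((sheafToPresheaf _ _).mapIso (asIso (Univ.comp K F hK₂)))).2 (Sheaf.isSheaf_presheaf F)

end Groth.Agent.Lib.EtGerm.Compare
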