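import Groth.Agent.Lib.EtGerm.Basic
import Mathlib.AlgebraicGeometry.Morphisms.UniversallyOpen

/-!
Descent for locally representable functions on geometric points along universally submersive
jointly surjective families.
-/

set_option autoImplicit false

universe u w

open CategoryTheory CategoryTheory.Limits AlgebraicGeometry Opposite

noncomputable section

namespace Groth.Agent.Lib.EtGerm.Glue

open Groth.Agent.Lib.EtSite Groth.Agent.Lib.EtSite.Basic Groth.Agent.Lib.EtGerm.Basic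

variable {S : Scheme.{u}} (F : EtCoh.Ab S)

theorem germs_congr {T : Over S} (σ : Germs F T) {Ω : Type u} [Field Ω] [IsSepClosed Ω]
    {η : Spec (CommRingCat.of Ω) ⟶ S} {ξ ξ' : Spec (CommRingCat.of Ω) ⟶ T.left}
    (e : ξ = ξ') (h : ξ ≫ T.hom = η) (h' : ξ' ≫ T.hom = η) :
    σ ⟨Ω, η, ξ, h⟩ = σ ⟨Ω, η, ξ', h'⟩ := by
  subst e; rfl

/-- Agreement with a germ only depends on the point of `V`. -/
theorem agree_transfer {T : Over S} {σ : Germs F T} (hσ : CompatExt F σ) {V : Scheme.{u}}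
    {c : V ⟶ T.left} {W : S.Etale} {b : V ⟶ W.left} (hb : b ≫ W.hom = c ≫ T.hom)
    (a : F.obj.obj (op W))
    {Ω₁ : Type u} [Field Ω₁] [IsSepClosed Ω₁] {η₁ : Spec (CommRingCat.of Ω₁) ⟶ S}
    {ξ₁ : Spec (CommRingCat.of Ω₁) ⟶ T.left} (h₁ : ξ₁ ≫ T.hom = η₁)
    (l₁ : Spec (CommRingCat.of Ω₁) ⟶ V) (hl₁ : l₁ ≫ c = ξ₁)
    {Ω₂ : Type u} [Field Ω₂] [IsSepClosed Ω₂] {η₂ : Spec (CommRingCat.of Ω₂) ⟶ S}
    {ξ₂ : Spec (CommRingCat.of Ω₂) ⟶ T.left} (h₂ : ξ₂ ≫ T.hom = η₂)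
    (l₂ : Spec (CommRingCat.of Ω₂) ⟶ V) (hl₂ : l₂ ≫ c = ξ₂)
    (hv : l₁.base default = l₂.base default)
    (h : σ ⟨Ω₁, η₁, ξ₁, h₁⟩ = germ F η₁ W (ptOf hb h₁ l₁ hl₁) a) :
    σ ⟨Ω₂, η₂, ξ₂, h₂⟩ = germ F η₂ W (ptOf hb h₂ l₂ hl₂) a := by
  obtain ⟨Ω, _, _, χ₁, χ₂, hχ⟩ := exists_common l₁ l₂ hv
  let ξ := χ₂ ≫ ξ₂
  let η := χ₂ ≫ η₂
  have hξ : ξ ≫ T.hom = η := (Category.assoc _ _ _).trans (congrArg (χ₂ ≫ ·) h₂)
  have hξ₁ : χ₁ ≫ ξ₁ = ξ := by
    rw [← hl₁, ← Category.assoc, hχ, Category.assoc, hl₂]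
  have hη₁ : χ₁ ≫ η₁ = η := by
    rw [← h₁, ← Category.assoc, hξ₁]
    exact hξ
  apply extStk_injective F χ₂ (rfl : χ₂ ≫ η₂ = η)
  rw [← hσ Ω₂ η₂ ξ₂ h₂ Ω η χ₂ rfl ξ hξ rfl,
    hσ Ω₁ η₁ ξ₁ h₁ Ω η χ₁ hη₁ ξ hξ hξ₁, h, extStk_germ, extStk_germ]
  refine congrArg (fun r => germ F η W r a) (Over.OverMorphism.ext ?_)
  change χ₁ ≫ l₁ ≫ b = χ₂ ≫ l₂ ≫ b
  rw [← Category.assoc, hχ, Category.assoc]

variable {T : Over S} {κ : Type w} {Ti : κ → Over S} (g : ∀ i, Ti i ⟶ T)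

/-- The value at `x` of a gluing of `σi`. -/
def Char (σi : ∀ i, Germs F (Ti i)) (x : GPt T) (s : Stk F x.η) : Prop :=
  ∀ (i : κ) (Ω' : Type u) [Field Ω'] [IsSepClosed Ω'] (η' : Spec (CommRingCat.of Ω') ⟶ S)
    (φ : Spec (CommRingCat.of Ω') ⟶ Spec (CommRingCat.of x.Ω)) (hφ : φ ≫ x.η = η')
    (ζ : Spec (CommRingCat.of Ω') ⟶ (Ti i).left) (hζ : ζ ≫ (Ti i).hom = η'),
    φ ≫ x.ξ = ζ ≫ (g i).left → extStk F φ hφ s = σi i ⟨Ω', η', ζ, hζ⟩

variable (hsurj : ∀ t : T.left, ∃ (i : κ) (s : (Ti i).left), (g i).left.base s = t)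

include hsurj in
theorem exists_lift (x : GPt T) :
    ∃ (i : κ) (Ω' : Type u) (_ : Field Ω') (_ : IsSepClosed Ω')
      (φ : Spec (CommRingCat.of Ω') ⟶ Spec (CommRingCat.of x.Ω))
      (ζ : Spec (CommRingCat.of Ω') ⟶ (Ti i).left),
      φ ≫ x.ξ = ζ ≫ (g i).left ∧ ζ ≫ (Ti i).hom = φ ≫ x.η := by
  obtain ⟨i, s, hs⟩ := hsurj (x.ξ.base default)
  obtain ⟨Ω', hf, hsep, φ, χ, hχ⟩ := exists_common x.ξ (Push.algPoint _ s ≫ (g i).left)
    (hs.symm.trans (congrArg (g i).left.base (Push.algPoint_apply _ s default)).symm)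
  refine ⟨i, Ω', hf, hsep, φ, χ ≫ Push.algPoint _ s, hχ.trans (Category.assoc _ _ _).symm, ?_⟩
  rw [← x.comm, ← Category.assoc φ, hχ]
  simp only [Category.assoc, Over.w (g i)]

include hsurj in
theorem char_unique (σi : ∀ i, Germs F (Ti i)) (x : GPt T) (s s' : Stk F x.η)
    (h : Char F g σi x s) (h' : Char F g σi x s') : s = s' := by
  obtain ⟨i, Ω', _, _, φ, ζ, e, eζ⟩ := exists_lift g hsurj x
  exact extStk_injective F φ rfl
    ((h i Ω' _ φ rfl ζ eζ e).trans (h' i Ω' _ φ rfl ζ eζ e).symm)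

include hsurj in
/-- Two compatible functions agreeing on a covering are equal. -/
theorem ext_of_restr {σ τ : Germs F T} (hσ : CompatExt F σ) (hτ : CompatExt F τ)
    (h : ∀ i, restr F (g i) σ = restr F (g i) τ) : σ = τ := by
  funext x
  obtain ⟨i, Ω', _, _, φ, ζ, e, eζ⟩ := exists_lift g hsurj x
  apply extStk_injective F φ (rfl : φ ≫ x.η = _)
  have hh : (ζ ≫ (g i).left) ≫ T.hom = φ ≫ x.η := by
    rw [Category.assoc, Over.w (g i)]; exact eζ
  exact ((hσ _ x.η x.ξ x.comm Ω' _ φ rfl _ hh e).symm.trans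
    (congrFun (h i) ⟨Ω', φ ≫ x.η, ζ, eζ⟩)).trans (hτ _ x.η x.ξ x.comm Ω' _ φ rfl _ hh e)

variable (hsub : ∀ (V : Scheme.{u}) (c : V ⟶ T.left) [Etale c] (O : Set V),
  (∀ i, IsOpen ((pullback.fst c (g i).left).base ⁻¹' O)) → IsOpen O)
  (σi : ∀ i, sect F (Ti i))
  (compat : ∀ (i j : κ) (Z : Over S) (gi : Z ⟶ Ti i) (gj : Z ⟶ Ti j), gi ≫ g i = gj ≫ g j →
    restr F gi (σi i).1 = restr F gj (σi j).1)

include hsurj compat in
theorem exists_char (x : GPt T) : ∃ s, Char F g (fun i => (σi i).1) x s := by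
  obtain ⟨i₀, Ω₁, _, _, φ₀, ζ₀, e₀, eζ₀⟩ := exists_lift g hsurj x
  obtain ⟨s, hs⟩ := extStk_surjective F φ₀ (rfl : φ₀ ≫ x.η = _)
    ((σi i₀).1 ⟨Ω₁, φ₀ ≫ x.η, ζ₀, eζ₀⟩)
  refine ⟨s, fun i Ω' _ _ η' φ hφ ζ hζ e => ?_⟩
  obtain ⟨Ω₃, _, _, χ₀, χ, hχ⟩ := exists_common φ₀ φ (Subsingleton.elim _ _)
  let η₃ := χ ≫ η'
  have h₀ : χ₀ ≫ φ₀ ≫ x.η = η₃ := by
    rw [← Category.assoc, hχ, Category.assoc, hφ]
  let Z : Over S := Over.mk η₃
  have hw₀ : (χ₀ ≫ ζ₀) ≫ (Ti i₀).hom = η₃ := by rw [Category.assoc, eζ₀]; exact h₀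
  have hw : (χ ≫ ζ) ≫ (Ti i).hom = η₃ := by rw [Category.assoc, hζ]
  have hc := congrFun (compat i₀ i Z (Over.homMk (χ₀ ≫ ζ₀) hw₀) (Over.homMk (χ ≫ ζ) hw)
    (Over.OverMorphism.ext (by
      change (χ₀ ≫ ζ₀) ≫ (g i₀).left = (χ ≫ ζ) ≫ (g i).left
      rw [Category.assoc, Category.assoc, ← e₀, ← e, ← Category.assoc, ← Category.assoc, hχ])))
    ⟨Ω₃, η₃, 𝟙 _, Category.id_comp _⟩
  replace hc : (σi i₀).1 ⟨Ω₃, η₃, χ₀ ≫ ζ₀, hw₀⟩ = (σi i).1 ⟨Ω₃, η₃, χ ≫ ζ, hw⟩ :=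
    (germs_congr F (σi i₀).1 (Category.id_comp _) _ _).symm.trans
      (hc.trans (germs_congr F (σi i).1 (Category.id_comp _) _ _))
  apply extStk_injective F χ (rfl : χ ≫ η' = η₃)
  rw [extStk_extStk F φ hφ χ rfl (χ ≫ φ) (by rw [Category.assoc, hφ]) rfl,
    ← extStk_extStk F φ₀ rfl χ₀ h₀ (χ ≫ φ) (by rw [Category.assoc, hφ]) hχ, hs,
    ← IsLocRep.compatExt F (σi i₀).2 _ _ ζ₀ eζ₀ Ω₃ η₃ χ₀ h₀ _ hw₀ rfl, hc,
    IsLocRep.compatExt F (σi i).2 _ _ ζ hζ Ω₃ η₃ χ rfl _ hw rfl]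

include hsurj hsub compat in
/-- Compatible families glue. -/
theorem exists_glue : ∃ σ : sect F T, ∀ i, restr F (g i) σ.1 = (σi i).1 := by
  classical
  choose σ hσ using exists_char F g hsurj σi compat
  have hres : ∀ i, restr F (g i) σ = (σi i).1 := by
    intro i
    funext y
    have hy : (y.ξ ≫ (g i).left) ≫ T.hom = y.η := by rw [Category.assoc, Over.w (g i)]; exact y.comm
    have h := hσ ⟨y.Ω, y.η, y.ξ ≫ (g i).left, hy⟩ i y.Ω y.η (𝟙 _) (Category.id_comp _) y.ξ y.comm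
      (Category.id_comp _)
    exact (extStk_id F (Category.id_comp y.η) _).symm.trans h
  have hext : CompatExt F σ := by
    intro Ω _ _ η ξ h Ω' _ _ η' φ hφ ξ' h' hξ'
    refine char_unique F g hsurj _ ⟨Ω', η', ξ', h'⟩ _ _ (hσ _)
      fun i Ω'' _ _ η'' χ hχ ζ hζ e => ?_
    rw [extStk_extStk F φ hφ χ hχ (χ ≫ φ) (by rw [Category.assoc, hφ]; exact hχ) rfl]
    exact hσ ⟨Ω, η, ξ, h⟩ i Ω'' η'' (χ ≫ φ) _ ζ hζ
      ((Category.assoc _ _ _).trans ((congrArg (χ ≫ ·) hξ').trans e))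
  refine ⟨⟨σ, fun t => ?_⟩, hres⟩
  let ξ₀ := Push.algPoint T.left t
  obtain ⟨W, p, a, hpa⟩ := exists_germ F (σ ⟨_, ξ₀ ≫ T.hom, ξ₀, rfl⟩)
  have : Etale W.hom := W.prop
  let c : pullback T.hom W.hom ⟶ T.left := pullback.fst _ _
  let b : pullback T.hom W.hom ⟶ W.left := pullback.snd _ _
  have hb : b ≫ W.hom = c ≫ T.hom := pullback.condition.symm
  let O : Set ↥(pullback T.hom W.hom) := {v | ∀ (Ω : Type u) [Field Ω] [IsSepClosed Ω]
    (η : Spec (CommRingCat.of Ω) ⟶ S) (ξ : Spec (CommRingCat.of Ω) ⟶ T.left) (h : ξ ≫ T.hom = η)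
    (l : Spec (CommRingCat.of Ω) ⟶ pullback T.hom W.hom) (hl : l ≫ c = ξ),
    l.base default = v → σ ⟨Ω, η, ξ, h⟩ = germ F η W (ptOf hb h l hl) a}
  have hO : IsOpen O := by
    refine hsub _ c O fun i => ?_
    rw [isOpen_iff_forall_mem_open]
    intro w hw
    let P := pullback c (g i).left
    obtain ⟨Vi, ci, _, W', b', hb', a', ⟨vi, hvi⟩, hrep⟩ := (σi i).2 ((pullback.snd c (g i).left).base w)
    let Q := pullback (pullback.snd c (g i).left) ci
    obtain ⟨q, hq, -⟩ := Scheme.Pullback.exists_preimage_pullback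
      (f := pullback.snd c (g i).left) (g := ci) w vi hvi.symm
    let B : Q ⟶ (prodEt W W').left :=
      pullback.lift (pullback.fst _ _ ≫ pullback.fst c (g i).left ≫ b) (pullback.snd _ _ ≫ b') (by
        simp only [Category.assoc]
        rw [hb, hb', pullback.condition_assoc (f := c), Over.w (g i),
          pullback.condition_assoc (f := pullback.snd c (g i).left)])
    let A : Set (prodEt W W').left :=
      agree F (prodEt W W') (F.obj.map (prodFst W W').op a) (F.obj.map (prodSnd W W').op a')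
    have key : ∀ q' : Q, (pullback.fst c (g i).left).base
        ((pullback.fst (pullback.snd c (g i).left) ci).base q') ∈ O ↔ B.base q' ∈ A := by
      intro q'
      let ζ := Push.algPoint Q q'
      let lv := ζ ≫ pullback.fst _ _ ≫ pullback.fst c (g i).left
      let li := ζ ≫ pullback.snd (pullback.snd c (g i).left) ci
      let η := (lv ≫ c) ≫ T.hom
      have hli : (li ≫ ci) ≫ (g i).left = lv ≫ c := by
        simp only [li, lv, Category.assoc]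
        rw [← pullback.condition_assoc (f := pullback.snd c (g i).left), ← pullback.condition]
      have hcomm : (li ≫ ci) ≫ (Ti i).hom = η := by
        rw [← Over.w (g i), ← Category.assoc, hli]
      have hval : σ ⟨_, η, lv ≫ c, rfl⟩ = germ F η W' (ptOf hb' hcomm li rfl) a' :=
        (germs_congr F σ hli.symm _ (by rw [hli])).trans
          ((congrFun (hres i) ⟨_, η, li ≫ ci, hcomm⟩).trans (hrep _ η _ hcomm li rfl))
      have hlv : lv.base default = (pullback.fst c (g i).left).base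
          ((pullback.fst (pullback.snd c (g i).left) ci).base q') := by
        change (pullback.fst c (g i).left).base
          ((pullback.fst (pullback.snd c (g i).left) ci).base (ζ.base default)) = _
        rw [Push.algPoint_apply]
      have hpt : (ζ ≫ B) ≫ (prodEt W W').hom = η := by
        change (ζ ≫ B) ≫ pullback.fst W.hom W'.hom ≫ W.hom = (lv ≫ c) ≫ T.hom
        rw [Category.assoc, ← Category.assoc B]
        refine (congrArg (ζ ≫ ·) (congrArg (· ≫ W.hom) (pullback.lift_fst _ _ _))).trans ?_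
        simp only [lv, Category.assoc, hb]
      let r := mkFiber η (prodEt W W') (ζ ≫ B) hpt
      have hr₁ : (Scheme.pointSmallEtale η).fiber.map (prodFst W W') r = ptOf hb rfl lv rfl :=
        Over.OverMorphism.ext ((Category.assoc _ _ _).trans
          ((congrArg (ζ ≫ ·) (pullback.lift_fst _ _ _)).trans (by simp only [lv, Category.assoc]; rfl)))
      have hr₂ : (Scheme.pointSmallEtale η).fiber.map (prodSnd W W') r = ptOf hb' hcomm li rfl :=
        Over.OverMorphism.ext ((Category.assoc _ _ _).trans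
          ((congrArg (ζ ≫ ·) (pullback.lift_snd _ _ _)).trans (Category.assoc _ _ _).symm))
      have hiff : σ ⟨_, η, lv ≫ c, rfl⟩ = germ F η W (ptOf hb rfl lv rfl) a ↔ B.base q' ∈ A := by
        have e : fiberPt r = B.base q' := by
          change B.base (ζ.base default) = _
          rw [Push.algPoint_apply]
        rw [hval, ← hr₁, ← hr₂, ← germ_map, ← germ_map, eq_comm, germ_eq_iff, e]
      refine ⟨fun h => hiff.1 (h _ η _ rfl lv rfl hlv), fun h => ?_⟩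
      intro Ω _ _ η₂ ξ₂ h₂ l₂ hl₂ hv₂
      exact agree_transfer F hext hb a rfl lv rfl h₂ l₂ hl₂ (hlv.trans hv₂.symm) (hiff.2 h)
    refine ⟨(pullback.fst (pullback.snd c (g i).left) ci).base '' (B.base ⁻¹' A), ?_, ?_, ?_⟩
    · rintro _ ⟨q', hq', rfl⟩
      exact (key q').2 hq'
    · exact (pullback.fst (pullback.snd c (g i).left) ci).isOpenMap _
        ((isOpen_agree F _ _ _).preimage B.continuous)
    · refine ⟨q, (key q).1 ?_, hq⟩
      rw [hq]
      exact hw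
  let l₀ : Spec (CommRingCat.of _) ⟶ pullback T.hom W.hom :=
    pullback.lift ξ₀ (fiberHom p) (fiberHom_comp p).symm
  have hv₀ : l₀.base default ∈ O := by
    intro Ω _ _ η ξ h l hl hv
    refine agree_transfer F hext hb a (η₁ := ξ₀ ≫ T.hom) rfl l₀ (pullback.lift_fst _ _ _)
      h l hl hv.symm ?_
    refine hpa.symm.trans (congrArg (fun r => germ F _ W r a) (Over.OverMorphism.ext ?_))
    exact (pullback.lift_snd _ _ _).symm
  let Oo : (pullback T.hom W.hom).Opens := ⟨O, hO⟩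
  refine ⟨Oo, Oo.ι ≫ c, inferInstance, W, Oo.ι ≫ b, by rw [Category.assoc, Category.assoc, hb],
    a, ⟨⟨_, hv₀⟩, ?_⟩, fun Ω _ _ η ξ h l hl => ?_⟩
  · change c.base (l₀.base default) = t
    rw [← Scheme.Hom.comp_apply, pullback.lift_fst]
    exact Push.algPoint_apply _ _ _
  · have hl' : (l ≫ Oo.ι) ≫ c = ξ := (Category.assoc _ _ _).trans hl
    refine ((l.base default).2 Ω η ξ h (l ≫ Oo.ι) hl' rfl).trans ?_
    exact congrArg (fun r => germ F η W r a) (Over.OverMorphism.ext (Category.assoc _ _ _))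

end Groth.Agent.Lib.EtGerm.Glue
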