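import Groth.Agent.Lib.EtGerm.Glue
import Groth.Prelude.Def_BigSite
import Mathlib.AlgebraicGeometry.Morphisms.Flat

/-!
The presheaf of locally representable functions is a sheaf for the fpqc topology.
-/

set_option autoImplicit false

universe u w

open CategoryTheory CategoryTheory.Limits AlgebraicGeometry Opposite

noncomputable section

namespace Groth.Agent.Lib.EtGerm.Sheaf

open Groth.Agent.Lib.EtGerm.Basic

/-- Flat quasi-compact covers are submersive, also after base change. -/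
theorem isOpen_of_cover {V : Scheme.{u}} (E : PreZeroHypercover.{w} V) [QuasiCompactCover E]
    [∀ i, Flat (E.f i)] (O : Set V) (h : ∀ i, IsOpen ((E.f i).base ⁻¹' O)) : IsOpen O := by
  rw [isOpen_iff_forall_mem_open]
  intro v hv
  obtain ⟨U, hU, hvU, -⟩ := exists_isAffineOpen_mem_and_subset (x := v) (U := (⊤ : V.Opens)) trivial
  obtain ⟨n, a, Vs, haff, heq⟩ := QuasiCompactCover.exists_isAffineOpen_of_isCompact E hU.isCompact
  have : IsAffine (U : Scheme.{u}) := hU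
  have : ∀ j, IsAffine (Vs j : Scheme.{u}) := haff
  have hr : ∀ j, Set.range ((Vs j).ι ≫ E.f (a j)).base ⊆ Set.range U.ι.base := by
    rintro j _ ⟨z, rfl⟩
    rw [Scheme.Opens.range_ι, ← heq]
    exact Set.mem_iUnion.2 ⟨j, _, z.2, rfl⟩
  let Vs' : ULift.{u} (Fin n) → Scheme.{u} := fun j => (Vs j.down : Scheme.{u})
  let pj : ∀ j, Vs' j ⟶ U := fun j => IsOpenImmersion.lift U.ι _ (hr j.down)
  have hpj : ∀ j, pj j ≫ U.ι = (Vs j.down).ι ≫ E.f (a j.down) := fun j =>
    IsOpenImmersion.lift_fac _ _ _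
  have : ∀ j, IsAffine (Vs' j) := fun j => haff j.down
  let p : ∐ Vs' ⟶ U := Sigma.desc pj
  have : Flat p := by
    refine IsZariskiLocalAtSource.of_openCover (P := @Flat) (sigmaOpenCover Vs') fun j => ?_
    change Flat (Sigma.ι Vs' j ≫ Sigma.desc pj)
    rw [Sigma.ι_desc]
    have hflat : Flat (pj j ≫ U.ι) := by rw [hpj]; infer_instance
    exact MorphismProperty.of_postcomp (W := @Flat) (W' := @IsOpenImmersion) (pj j) U.ι
      inferInstance hflat
  have : Surjective p := ⟨fun u => by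
    have hu : U.ι.base u ∈ ⋃ j, (E.f (a j)).base '' (Vs j) := heq.symm ▸ u.2
    obtain ⟨j, z, hz, e⟩ := Set.mem_iUnion.1 hu
    refine ⟨(Sigma.ι Vs' ⟨j⟩).base ⟨z, hz⟩, ?_⟩
    rw [← Scheme.Hom.comp_apply, Sigma.ι_desc]
    refine U.ι.isOpenEmbedding.injective ?_
    exact (congrArg (fun q => q.base ⟨z, hz⟩) (hpj ⟨j⟩)).trans e⟩
  have hq : IsOpen (U.ι.base ⁻¹' O) := by
    rw [← (Flat.isQuotientMap_of_surjective p).isOpen_preimage,
      (sigmaOpenCover Vs').isOpenCover_opensRange.isOpen_iff_inter]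
    intro j
    rw [Scheme.Hom.coe_opensRange, ← Set.image_preimage_eq_inter_range]
    apply ((sigmaOpenCover Vs').f j).isOpenEmbedding.isOpenMap
    have e : (Sigma.ι Vs' j ≫ p) ≫ U.ι = (Vs j.down).ι ≫ E.f (a j.down) := by
      rw [Sigma.ι_desc, hpj]
    rw [← Set.preimage_comp, ← TopCat.coe_comp, ← Scheme.Hom.comp_base, ← Set.preimage_comp,
      ← TopCat.coe_comp, ← Scheme.Hom.comp_base]
    change IsOpen (((Sigma.ι Vs' j ≫ p) ≫ U.ι).base ⁻¹' O)
    rw [e]
    exact (h (a j.down)).preimage (Vs j.down).ι.continuous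
  refine ⟨U.ι.base '' (U.ι.base ⁻¹' O), Set.image_preimage_subset _ _,
    U.ι.isOpenEmbedding.isOpenMap _ hq, ⟨⟨v, hvU⟩, hv, rfl⟩⟩

variable {S : Scheme.{u}} (F : EtCoh.Ab S)

/-- A sieve covering for the fpqc topology is jointly surjective and submersive. -/
theorem cover_props {T : Over S} {R : Sieve T} (hR : R ∈ QuotSh.J Scheme.fpqcPrecoverage S T) :
    (∀ t : T.left, ∃ (Z : Over S) (f : Z ⟶ T), R f ∧ t ∈ Set.range f.left.base) ∧
      ∀ (V : Scheme.{u}) (c : V ⟶ T.left) (O : Set V),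
        (∀ (Z : Over S) (f : Z ⟶ T), R f → IsOpen ((pullback.fst c f.left).base ⁻¹' O)) →
        IsOpen O := by
  rw [GrothendieckTopology.mem_over_iff,
    Precoverage.mem_toGrothendieck_iff_of_isStableUnderComposition] at hR
  obtain ⟨P, hP, hle⟩ := hR
  obtain ⟨ι, Y, f, rfl⟩ := P.exists_eq_ofArrows
  have hmem : ∀ i, R (Over.homMk (f i) : Over.mk (f i ≫ T.hom) ⟶ T) := fun i =>
    (Sieve.overEquiv_iff R (f i)).1 (hle _ _ ⟨i⟩)
  obtain ⟨hsurj, hflat⟩ := (Scheme.ofArrows_mem_precoverage_iff _).1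
    (Scheme.propQCPrecoverage_le_precoverage (P := @Flat) _ hP)
  let E : PreZeroHypercover T.left := ⟨ι, Y, f⟩
  have : QuasiCompactCover E := Scheme.presieve₀_mem_qcPrecoverage_iff.1 hP.1
  refine ⟨fun t => ?_, fun V c O hO => ?_⟩
  · obtain ⟨i, hi⟩ := hsurj t
    exact ⟨_, _, hmem i, hi⟩
  · have : ∀ i, Flat ((E.pullback₁ c).f i) := fun i => by
      have : Flat (f i) := hflat i
      exact (inferInstance : Flat (pullback.fst c (f i)))
    exact isOpen_of_cover (E.pullback₁ c) O fun i => hO _ _ (hmem i)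

/-- The presheaf of locally representable functions is an fpqc sheaf. -/
theorem isSheaf_presheaf :
    Presheaf.IsSheaf (QuotSh.J Scheme.fpqcPrecoverage S) (presheaf F) := by
  apply Presheaf.isSheaf_of_isSheaf_comp _ _ (forget AddCommGrpCat.{u + 1})
  rw [isSheaf_iff_isSheaf_of_type]
  intro T R hR x hx
  obtain ⟨hsurj, hsub⟩ := cover_props hR
  let κ := Σ Z : Over S, {f : Z ⟶ T // R f}
  let g : ∀ i : κ, i.1 ⟶ T := fun i => i.2.1
  have hs : ∀ t : T.left, ∃ (i : κ) (s : i.1.left), (g i).left.base s = t := fun t => by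
    obtain ⟨Z, f, hf, s, hs⟩ := hsurj t
    exact ⟨⟨Z, f, hf⟩, s, hs⟩
  have compat : ∀ (i j : κ) (Z : Over S) (gi : Z ⟶ i.1) (gj : Z ⟶ j.1), gi ≫ g i = gj ≫ g j →
      restr F gi (x i.2.1 i.2.2 : sect F i.1).1 = restr F gj (x j.2.1 j.2.2 : sect F j.1).1 :=
    fun i j Z gi gj e => congrArg Subtype.val (hx gi gj i.2.2 j.2.2 e)
  obtain ⟨σ, hσ⟩ := Glue.exists_glue F g hs
    (fun V c _ O hO => hsub V c O fun Z f hf => hO ⟨Z, f, hf⟩)
    (fun i => (x i.2.1 i.2.2 : sect F i.1)) compat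
  refine ⟨σ, fun Z f hf => Subtype.ext (hσ ⟨Z, f, hf⟩), fun τ hτ => ?_⟩
  let τ' : sect F T := τ
  refine Subtype.ext (Glue.ext_of_restr F g hs (IsLocRep.compatExt F τ'.2)
    (IsLocRep.compatExt F σ.2) fun i => ?_)
  exact (congrArg Subtype.val (hτ i.2.1 i.2.2)).trans (hσ i).symm

end Groth.Agent.Lib.EtGerm.Sheaf
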