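import Groth.Agent.Lib.EtGerm.Sheaf
import Groth.Agent.S7480
import Groth.Agent.S8976
import Groth.Agent.S7190
import Groth.Prelude.Def_BigSite
import Groth.Prelude.Def_HTop

/-!
# Universally submersive coverings

The topology of jointly surjective, universally submersive families: it contains the ph and the h
topologies, and locally representable functions on geometric points form a sheaf for it.
-/

set_option autoImplicit false

universe w u

open CategoryTheory CategoryTheory.Limits AlgebraicGeometry Opposite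

noncomputable section

namespace Groth.Agent.Lib.EtGerm.Submersive

open Groth.Agent.Lib.EtGerm.Basic

/-- A sieve which is jointly surjective and submersive. -/
def IsSubm {V : Scheme.{u}} (R : Sieve V) : Prop :=
  (∀ v : V, ∃ (Z : Scheme.{u}) (f : Z ⟶ V), R f ∧ v ∈ Set.range f.base) ∧
    ∀ O : Set V, (∀ (Z : Scheme.{u}) (f : Z ⟶ V), R f → IsOpen (f.base ⁻¹' O)) → IsOpen O

/-- The topology of universally submersive families. -/
def topology : GrothendieckTopology Scheme.{u} where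
  sieves T := {R | ∀ ⦃V : Scheme.{u}⦄ (c : V ⟶ T), IsSubm (R.pullback c)}
  top_mem' T V c :=
    ⟨fun v => ⟨V, 𝟙 V, by simp, v, rfl⟩, fun O hO => by
      simpa using hO V (𝟙 V) (by simp)⟩
  pullback_stable' := fun T U S g hS V c => by
    simpa [← Sieve.pullback_comp] using hS (c ≫ g)
  transitive' := fun T S hS R hR V c => by
    refine ⟨fun v => ?_, fun O hO => (hS c).2 O fun Z f hf => ?_⟩
    · obtain ⟨Z, f, hf, z, hz⟩ := (hS c).1 v
      obtain ⟨Z', f', hf', z', hz'⟩ := (hR hf (𝟙 Z)).1 z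
      refine ⟨Z', f' ≫ f, ?_, z', ?_⟩
      · simpa [Sieve.pullback_apply] using hf'
      · exact (congrArg f.base hz').trans hz
    · refine (hR hf (𝟙 Z)).2 _ fun Z' f' hf' => ?_
      have h := hO Z' (f' ≫ f) (by simpa [Sieve.pullback_apply] using hf')
      exact h

theorem isSubm_of_ph {V : Scheme.{u}} (E : PreZeroHypercover.{w} V) (hE : HTop.IsPhCover E)
    {R : Sieve V} (hR : ∀ i, R (E.f i)) : IsSubm R := by
  have key : ∀ U : V.affineOpens, ∃ (W : Scheme.{u}) (p : W ⟶ (U.1 : Scheme.{u})), IsProper p ∧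
      Surjective p ∧ ∀ x : W, ∃ (Z : Scheme.{u}) (j : Z ⟶ W), IsOpenImmersion j ∧
        x ∈ Set.range j.base ∧ R (j ≫ p ≫ U.1.ι) := by
    intro U
    obtain ⟨F, hF, hr⟩ := hE.2 U
    obtain ⟨W, p, ι, hp, hs, hι, hfac, hcov⟩ := hF.exists_proper
    refine ⟨W, p, hp, hs, fun x => ?_⟩
    obtain ⟨j, hj⟩ := hcov x
    obtain ⟨i, h, hh⟩ := hr j
    refine ⟨_, ι j, hι j, hj, ?_⟩
    rw [← Category.assoc, hfac j, ← hh]
    exact R.downward_closed (hR i) h
  refine ⟨fun v => ?_, fun O hO => ?_⟩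
  · obtain ⟨U, hU, hvU, -⟩ := exists_isAffineOpen_mem_and_subset (x := v) (U := (⊤ : V.Opens))
      trivial
    obtain ⟨W, p, -, hs, hW⟩ := key ⟨U, hU⟩
    obtain ⟨x, hx⟩ := hs.surj (⟨v, hvU⟩ : U)
    obtain ⟨Z, j, -, ⟨z, hz⟩, hjR⟩ := hW x
    exact ⟨Z, j ≫ p ≫ U.ι, hjR, z, by
      change U.ι.base (p.base (j.base z)) = v
      rw [hz]; exact congrArg U.ι.base hx⟩
  · rw [isOpen_iff_forall_mem_open]
    intro v hv
    obtain ⟨U, hU, hvU, -⟩ := exists_isAffineOpen_mem_and_subset (x := v) (U := (⊤ : V.Opens))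
      trivial
    obtain ⟨W, p, hp, hs, hW⟩ := key ⟨U, hU⟩
    have hopen : IsOpen (p.base ⁻¹' (U.ι.base ⁻¹' O)) := by
      rw [isOpen_iff_forall_mem_open]
      intro x hx
      obtain ⟨Z, j, hj, hjx, hjR⟩ := hW x
      refine ⟨j.base '' ((j ≫ p ≫ U.ι).base ⁻¹' O), ?_,
        j.isOpenEmbedding.isOpenMap _ (hO Z _ hjR), ?_⟩
      · rintro _ ⟨z, hz, rfl⟩
        exact hz
      · obtain ⟨z, rfl⟩ := hjx
        exact ⟨z, hx, rfl⟩
    have hq : Topology.IsQuotientMap p.base :=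
      p.isClosedMap.isQuotientMap p.continuous hs.surj
    refine ⟨U.ι.base '' (U.ι.base ⁻¹' O), Set.image_preimage_subset _ _,
      U.ι.isOpenEmbedding.isOpenMap _ (hq.isOpen_preimage.1 hopen), ⟨⟨v, hvU⟩, hv, rfl⟩⟩

theorem phTopology_le : HTop.phTopology.{u} ≤ topology := by
  refine Precoverage.toGrothendieck_le_iff_le_toPrecoverage.mpr fun T R hR => ?_
  rw [GrothendieckTopology.mem_toPrecoverage_iff]
  obtain ⟨E, rfl⟩ : ∃ E : PreZeroHypercover.{u + 1} T, E.presieve₀ = R := by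
    obtain ⟨ι, Y, f, h⟩ := R.exists_eq_ofArrows
    exact ⟨⟨ι, Y, f⟩, h.symm⟩
  intro V c
  refine isSubm_of_ph (E.pullback₁ c)
    (Groth.Agent.S7480.result c E ((HTop.presieve₀_mem_phPrecoverage_iff E).1 hR)) fun i => ?_
  exact ⟨_, pullback.snd c (E.f i), E.f i, ⟨i⟩, pullback.condition.symm⟩

theorem phPrecoverage_of_h {T : Scheme.{u}} (E : PreZeroHypercover.{w} T) (h : HTop.IsHCover E) :
    HTop.IsPhCover E :=
  (Groth.Agent.S8976.result E h.1).2 h.2

theorem hTopology_le_ph : HTop.hTopology.{u} ≤ HTop.phTopology := by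
  refine Precoverage.toGrothendieck_mono fun T R hR => ?_
  obtain ⟨ι, Y, f, rfl⟩ := R.exists_eq_ofArrows
  exact (HTop.presieve₀_mem_phPrecoverage_iff ⟨ι, Y, f⟩).2
    (phPrecoverage_of_h _ ((HTop.presieve₀_mem_hPrecoverage_iff ⟨ι, Y, f⟩).1 hR))

theorem hTopology_le : HTop.hTopology.{u} ≤ topology :=
  hTopology_le_ph.trans phTopology_le

theorem etalePrecoverage_le_phPrecoverage : Scheme.etalePrecoverage.{u} ≤ HTop.phPrecoverage := by
  intro T R hR
  obtain ⟨ι, Y, f, rfl⟩ := R.exists_eq_ofArrows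
  obtain ⟨hs, he⟩ := (Scheme.ofArrows_mem_precoverage_iff _).1 hR
  exact (HTop.presieve₀_mem_phPrecoverage_iff ⟨ι, Y, f⟩).2 (Groth.Agent.S7190.result _
    (fun i => have := he i; (inferInstance : Flat (f i)))
    (fun i => have := he i; (inferInstance : LocallyOfFinitePresentation (f i))) hs)

theorem etalePrecoverage_le_hPrecoverage : Scheme.etalePrecoverage.{u} ≤ HTop.hPrecoverage := by
  intro T R hR
  obtain ⟨ι, Y, f, rfl⟩ := R.exists_eq_ofArrows
  obtain ⟨-, he⟩ := (Scheme.ofArrows_mem_precoverage_iff _).1 hR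
  have hfp : ∀ i, LocallyOfFinitePresentation (f i) := fun i => have := he i; inferInstance
  exact (HTop.presieve₀_mem_hPrecoverage_iff ⟨ι, Y, f⟩).2 ⟨hfp,
    (Groth.Agent.S8976.result _ hfp).1
      ((HTop.presieve₀_mem_phPrecoverage_iff ⟨ι, Y, f⟩).1
        (etalePrecoverage_le_phPrecoverage T hR))⟩

variable {S : Scheme.{u}} (F : EtCoh.Ab S)

theorem cover_props {T : Over S} {R : Sieve T} (hR : R ∈ (topology.over S) T) :
    (∀ t : T.left, ∃ (Z : Over S) (f : Z ⟶ T), R f ∧ t ∈ Set.range f.left.base) ∧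
      ∀ (V : Scheme.{u}) (c : V ⟶ T.left) (O : Set V),
        (∀ (Z : Over S) (f : Z ⟶ T), R f → IsOpen ((pullback.fst c f.left).base ⁻¹' O)) →
        IsOpen O := by
  rw [GrothendieckTopology.mem_over_iff] at hR
  refine ⟨fun t => ?_, fun V c O hO => (hR c).2 O fun Z h hh => ?_⟩
  · obtain ⟨Z, f, hf, ht⟩ := (hR (𝟙 T.left)).1 t
    rw [Sieve.pullback_apply, Category.comp_id] at hf
    exact ⟨Over.mk (f ≫ T.hom), Over.homMk f rfl, (Sieve.overEquiv_iff R f).1 hf, ht⟩
  · let g : Over.mk ((h ≫ c) ≫ T.hom) ⟶ T := Over.homMk (h ≫ c) rfl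
    have hg := hO _ g ((Sieve.overEquiv_iff R (h ≫ c)).1 hh)
    have := hg.preimage (pullback.lift h (𝟙 Z) (Category.id_comp _).symm :
      Z ⟶ pullback c g.left).continuous
    rw [← Set.preimage_comp, ← TopCat.coe_comp, ← Scheme.Hom.comp_base, pullback.lift_fst] at this
    exact this

/-- The presheaf of locally representable functions is a sheaf for universally submersive
families. -/
theorem isSheaf_presheaf : Presheaf.IsSheaf (topology.over S) (presheaf F) := by
  apply Presheaf.isSheaf_of_isSheaf_comp _ _ (forget AddCommGrpCat.{u + 1})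
  rw [isSheaf_iff_isSheaf_of_type]
  intro T R hR x hx
  obtain ⟨hsurj, hsub⟩ := cover_props hR
  let κ := Σ Z : Over S, {f : Z ⟶ T // R f}
  let g : ∀ i : κ, i.1 ⟶ T := fun i => i.2.1
  have hs : ∀ t : T.left, ∃ (i : κ) (s : i.1.left), (g i).left.base s = t := fun t => by
    obtain ⟨Z, f, hf, s, hs⟩ := hsurj t
    exact ⟨⟨Z, f, hf⟩, s, hs⟩
  have compat : ∀ (i j : κ) (Z : Over S) (gi : Z ⟶ i.1) (gj : Z ⟶ j.1), gi ≫ g i = gj ≫ g j →
      restr F gi (x i.2.1 i.2.2 : sect F i.1).1 = restr F gj (x j.2.1 j.2.2 : sect F j.1).1 :=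
    fun i j Z gi gj e => congrArg Subtype.val (hx gi gj i.2.2 j.2.2 e)
  obtain ⟨σ, hσ⟩ := Glue.exists_glue F g hs
    (fun V c _ O hO => hsub V c O fun Z f hf => hO ⟨Z, f, hf⟩)
    (fun i => (x i.2.1 i.2.2 : sect F i.1)) compat
  refine ⟨σ, fun Z f hf => Subtype.ext (hσ ⟨Z, f, hf⟩), fun τ hτ => ?_⟩
  let τ' : sect F T := τ
  refine Subtype.ext (Glue.ext_of_restr F g hs (IsLocRep.compatExt F τ'.2)
    (IsLocRep.compatExt F σ.2) fun i => ?_)
  exact (congrArg Subtype.val (hτ i.2.1 i.2.2)).trans (hσ i).symm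

theorem isSheaf_presheaf_of_le {K : Precoverage Scheme.{u}} (hK : K.toGrothendieck ≤ topology) :
    Presheaf.IsSheaf (QuotSh.J K S) (presheaf F) :=
  Presheaf.IsSheaf.of_le (fun _ _ h => by
    rw [GrothendieckTopology.mem_over_iff] at h ⊢
    exact hK _ h) (isSheaf_presheaf F)

end Groth.Agent.Lib.EtGerm.Submersive
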