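import Groth.Agent.Lib.EtGerm.Compare

/-!
The unit of the inverse image to a big site is an isomorphism, and the inverse image preserves
monomorphisms.
-/

set_option autoImplicit false

universe u

open CategoryTheory CategoryTheory.Limits AlgebraicGeometry Opposite

noncomputable section

namespace Groth.Agent.Lib.EtGerm.Unit

open Groth.Agent.Lib.EtSite Groth.Agent.Lib.EtSite.Basic Groth.Agent.Lib.EtGerm.Basic
  Groth.Agent.Lib.EtGerm.Univ

variable {S : Scheme.{u}} (F : EtCoh.Ab S)

/-- A section is determined by its function. -/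
theorem ofSection_injective (U : S.Etale) : Function.Injective (ofSection F U) := by
  intro a a' h
  refine Stalk.sections_ext_of_germ F a a' (Stalk.enoughPts_pt fun s p => ?_)
  have e := congrFun (congrArg Subtype.val h) ⟨_, geomPoint S s, fiberHom p, fiberHom_comp p⟩
  have hp : mkFiber (geomPoint S s) U (fiberHom p) (fiberHom_comp p) = p := Over.OverMorphism.ext rfl
  refine Eq.trans ?_ (e.trans ?_)
  · exact congrArg (fun r => germ F _ U r a) hp.symm
  · exact congrArg (fun r => germ F _ U r a') hp

theorem ofSection_map {U U' : S.Etale} (q : U' ⟶ U) (a : F.obj.obj (op U)) :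
    ofSection F U' (F.obj.map q.op a) =
      (presheaf F).map ((EtFppf.a S).map q).op (ofSection F U a) :=
  Subtype.ext (funext fun x => (germ_map F x.η q _ a).trans
    (congrArg (fun r => germ F x.η U r a) (Over.OverMorphism.ext rfl)))

theorem exists_section (U : S.Etale) (σ : sect F ((EtFppf.a S).obj U)) (x : U.left) :
    ∃ (V : S.Etale) (g : V ⟶ U) (s : F.obj.obj (op V)), x ∈ Set.range g.left.base ∧
      ofSection F V s = (presheaf F).map ((EtFppf.a S).map g).op σ := by
  obtain ⟨V, c, hc, W, b, hb, a, hx, h⟩ := σ.2 x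
  let c' : V ⟶ U.left := c
  have hU : Etale U.hom := U.prop
  have : Etale c' := hc
  let V' : S.Etale := Scheme.Etale.mk (c' ≫ U.hom)
  let g : V' ⟶ U := MorphismProperty.Over.homMk c' rfl
  let b' : V' ⟶ W := MorphismProperty.Over.homMk b hb
  refine ⟨V', g, F.obj.map b'.op a, hx, ?_⟩
  rw [ofSection_map]
  refine Subtype.ext (funext fun z => ?_)
  exact Eq.trans (congrArg (fun r => germ F z.η W r a) (Over.OverMorphism.ext rfl))
    (h z.Ω z.η (z.ξ ≫ c) ((Category.assoc _ _ _).trans z.comm) z.ξ rfl).symm

/-- A locally representable function on an etale scheme is a section. -/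
theorem ofSection_surjective (U : S.Etale) : Function.Surjective (ofSection F U) := by
  classical
  intro σ
  choose d hd using fun x : U.left => exists_section F U σ x
  choose g s hmem hs using hd
  have hS := (Presieve.isSheafFor_arrows_iff (F.obj ⋙ forget AddCommGrpCat.{u + 1}) g).1
    ((Presieve.isSheafFor_iff_generate _).2
      (((isSheaf_iff_isSheaf_of_type _ _).1 (Presheaf.isSheaf_comp_of_isSheaf _ F.obj
        (forget AddCommGrpCat.{u + 1}) F.property)) _
        (EtSite.Basic.ofArrows_mem d g fun x => by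
          obtain ⟨v, hv⟩ := hmem x; exact ⟨x, v, hv⟩)))
  obtain ⟨a, ha, -⟩ := hS s fun i j Z gi gj e => by
    refine ofSection_injective F Z ?_
    change ofSection F Z (F.obj.map gi.op (s i)) = ofSection F Z (F.obj.map gj.op (s j))
    rw [ofSection_map, ofSection_map, hs, hs, map_map, map_map, ← Functor.map_comp,
      ← Functor.map_comp]
    exact congrArg (fun r : Z ⟶ U => (presheaf F).map ((EtFppf.a S).map r).op σ) e
  refine ⟨a, Subtype.ext (funext fun x => ?_)⟩
  obtain ⟨v, hv⟩ := hmem (x.ξ.base default)
  let c : (d (x.ξ.base default)).left ⟶ U.left := (g (x.ξ.base default)).left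
  have hc : Etale c := Fiber.etale_left _
  obtain ⟨l, hl, -⟩ := Scheme.exists_fac_of_etale_of_isSepClosed c x.ξ v hv
  have hm : l ≫ (d (x.ξ.base default)).hom = x.η :=
    (congrArg (l ≫ ·) (Over.w (g (x.ξ.base default)).hom).symm).trans
      ((Category.assoc _ _ _).symm.trans ((congrArg (· ≫ U.hom) hl).trans x.comm))
  have e0 : (presheaf F).map ((EtFppf.a S).map (g (x.ξ.base default))).op (ofSection F U a) =
      (presheaf F).map ((EtFppf.a S).map (g (x.ξ.base default))).op σ :=
    (ofSection_map F (g (x.ξ.base default)) a).symm.trans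
      ((congrArg (ofSection F _) (ha (x.ξ.base default))).trans (hs _))
  have e1 := congrFun (congrArg Subtype.val e0) ⟨x.Ω, x.η, l, hm⟩
  refine Eq.trans ?_ (e1.trans ?_)
  · exact (Glue.germs_congr F _ hl _ _).symm
  · exact Glue.germs_congr F _ hl _ _

variable (K : Precoverage Scheme.{u}) [BigSite.AEtCont K S]

/-- The sections are the locally representable functions. -/
theorem isIso_unitP (hK₂ : K ≤ Scheme.fpqcPrecoverage) : IsIso (unitP K F hK₂) := by
  refine Stalk.isIso_of_app_bijective _ fun U => ?_
  exact ⟨ofSection_injective F U, ofSection_surjective F U⟩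

/-- The unit of the inverse image to a big site is an isomorphism. -/
theorem isIso_unit (hK₁ : Scheme.etalePrecoverage ≤ K) (hK₂ : K ≤ Scheme.fpqcPrecoverage) :
    IsIso ((BigSite.piEtAdj K S).unit.app F) := by
  have := Univ.isIso_comp K F hK₁ hK₂
  have h : (BigSite.piEtAdj K S).unit.app F ≫ (BigSite.resEt K S).map (comp K F hK₂) =
      unitP K F hK₂ :=
    ((BigSite.piEtAdj K S).homEquiv_unit _ _ _).symm.trans (Equiv.apply_symm_apply _ _)
  have := isIso_unitP F K hK₂
  rw [← h] at this
  exact IsIso.of_isIso_comp_right _ ((BigSite.resEt K S).map (comp K F hK₂))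

variable {F} {F' : EtCoh.Ab S} (φ : F ⟶ F')

/-- The map of stalks. -/
def stkMap {Ω : Type u} [Field Ω] [IsSepClosed Ω] (η : Spec (CommRingCat.of Ω) ⟶ S) :
    Stk F η →+ Stk F' η :=
  ((Scheme.pointSmallEtale η).presheafFiber.map φ.hom).hom

theorem stkMap_germ {Ω : Type u} [Field Ω] [IsSepClosed Ω] (η : Spec (CommRingCat.of Ω) ⟶ S)
    (W : S.Etale) (p : (Scheme.pointSmallEtale η).fiber.obj W) (a : F.obj.obj (op W)) :
    stkMap φ η (germ F η W p a) = germ F' η W p (φ.hom.app (op W) a) :=
  (Scheme.pointSmallEtale η).toPresheafFiber_naturality_apply φ.hom W p a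

/-- The map of sheaves of functions. -/
def map (hK₂ : K ≤ Scheme.fpqcPrecoverage) : shP K F hK₂ ⟶ shP K F' hK₂ :=
  Sheaf.homEquiv.symm
    { app := fun T => AddCommGrpCat.ofHom
        ((({ toFun := fun σ : Germs F T.unop => fun x => stkMap φ x.η (σ x)
             map_zero' := funext fun x => map_zero _
             map_add' := fun σ τ => funext fun x => map_add _ _ _ } :
              Germs F T.unop →+ Germs F' T.unop).comp (sect F T.unop).subtype).codRestrict _
          fun σ t => by
            obtain ⟨V, c, hc, W, b, hb, a, ht, h⟩ := σ.2 t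
            exact ⟨V, c, hc, W, b, hb, φ.hom.app (op W) a, ht, fun Ω _ _ η ξ hh l hl =>
              (congrArg (stkMap φ η) (h Ω η ξ hh l hl)).trans (stkMap_germ φ η W _ a)⟩)
      naturality := fun T T' g => rfl }

theorem comp_natural (hK₂ : K ≤ Scheme.fpqcPrecoverage) :
    (BigSite.piEtPull K S).map φ ≫ comp K F' hK₂ = comp K F hK₂ ≫ map K φ hK₂ := by
  apply ((BigSite.piEtAdj K S).homEquiv _ _).injective
  rw [Adjunction.homEquiv_naturality_left, Adjunction.homEquiv_naturality_right, comp, comp,
    Equiv.apply_symm_apply, Equiv.apply_symm_apply]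
  ext U a
  exact Subtype.ext (funext fun x => (stkMap_germ φ x.η U.unop _ a).symm)

theorem mono_map [Mono φ] (hK₂ : K ≤ Scheme.fpqcPrecoverage) : Mono (map K φ hK₂) := by
  refine Sheaf.mono_of_injective _ fun T => ?_
  intro σ τ h
  refine Subtype.ext (funext fun x => ?_)
  have : Mono ((Scheme.pointSmallEtale x.η).sheafFiber.map φ) := inferInstance
  exact (AddCommGrpCat.mono_iff_injective _).1 this (congrFun (congrArg Subtype.val h) x)

theorem preservesMonomorphisms (hK₁ : Scheme.etalePrecoverage ≤ K)
    (hK₂ : K ≤ Scheme.fpqcPrecoverage) : (BigSite.piEtPull K S).PreservesMonomorphisms := by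
  refine ⟨fun {F F'} φ _ => ?_⟩
  have := Univ.isIso_comp K F hK₁ hK₂
  have := mono_map K φ hK₂
  have : Mono ((BigSite.piEtPull K S).map φ ≫ comp K F' hK₂) := by
    rw [comp_natural]; infer_instance
  exact mono_of_mono _ (comp K F' hK₂)

end Groth.Agent.Lib.EtGerm.Unit
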