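import Groth.Agent.Lib.EtGerm.Univ

/-!
The inverse image of a sheaf of the small etale site to any big site on which locally representable
functions on geometric points form a sheaf is that sheaf.
-/

set_option autoImplicit false

universe u

open CategoryTheory CategoryTheory.Limits AlgebraicGeometry Opposite

noncomputable section

namespace Groth.Agent.Lib.EtGerm.UnivGen

open Groth.Agent.Lib.EtSite Groth.Agent.Lib.EtSite.Basic Groth.Agent.Lib.EtGerm.Basic
open Groth.Agent.Lib.EtGerm.Univ hiding shP unitP comp comp_unitL isIso_comp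

variable (K : Precoverage Scheme.{u}) {S : Scheme.{u}} (F : EtCoh.Ab S)

/-- The presheaf as a sheaf on the big site. -/
def shP (hS : Presheaf.IsSheaf (QuotSh.J K S) (presheaf F)) : BigSite.Ab K S :=
  ⟨presheaf F, hS⟩

variable [BigSite.AEtCont K S] (hK₁ : Scheme.etalePrecoverage ≤ K)
  (hS : Presheaf.IsSheaf (QuotSh.J K S) (presheaf F))

/-- The unit into the restriction of the presheaf. -/
def unitP : F ⟶ (BigSite.resEt K S).obj (shP K F hS) :=
  Sheaf.homEquiv.symm
    { app := fun U => AddCommGrpCat.ofHom (ofSection F U.unop)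
      naturality := fun U U' g => AddCommGrpCat.hom_ext (AddMonoidHom.ext fun a =>
        Subtype.ext (funext fun x => (germ_map F x.η g.unop _ a).trans
          (congrArg (fun r => germ F x.η U.unop r a) (Over.OverMorphism.ext rfl)))) }

/-- The comparison map. -/
def comp : (BigSite.piEtPull K S).obj F ⟶ shP K F hS :=
  ((BigSite.piEtAdj K S).homEquiv _ _).symm (unitP K F hS)

theorem comp_unitL (U : S.Etale) (a : F.obj.obj (op U)) :
    (comp K F hS).hom.app (op ((EtFppf.a S).obj U)) (unitL K F U a) = ofSection F U a := by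
  have h : (BigSite.piEtAdj K S).unit.app F ≫ (BigSite.resEt K S).map (comp K F hS) =
      unitP K F hS := by
    exact ((BigSite.piEtAdj K S).homEquiv_unit _ _ _).symm.trans (Equiv.apply_symm_apply _ _)
  exact ConcreteCategory.congr_hom (congrArg (fun φ => φ.hom.app (op U)) h) a


include hK₁ in
theorem isIso_comp : IsIso (comp K F hS) := by
  classical
  let L := (BigSite.piEtPull K S).obj F
  have hback : ∀ (T : Over S) (σ : sect F T), (comp K F hS).hom.app (op T) (back K F hK₁ T σ) = σ := by
    intro T σ
    let d := fun t : T.left => (nonempty_locData F σ t).some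
    refine sections_ext K hK₁ (shP K F hS) (fun t : ULift.{u + 1} T.left => (d t.down).Z)
      (fun t => (d t.down).g) (fun t => (d t.down).etale) (fun t => ⟨⟨t⟩, (d t).mem⟩) _ _ fun t => ?_
    refine (NatTrans.naturality_apply (comp K F hS).hom (d t.down).g.op _).symm.trans ?_
    rw [back_spec K F hK₁ σ (d t.down).g (d t.down).m (d t.down).a (d t.down).eq]
    refine (NatTrans.naturality_apply (comp K F hS).hom (d t.down).m.op _).trans ?_
    rw [comp_unitL]
    exact (d t.down).eq.symm
  have hnat : ∀ {T T' : Over S} (h : T' ⟶ T) (σ : sect F T),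
      L.obj.map h.op (back K F hK₁ T σ) = back K F hK₁ T' ((presheaf F).map h.op σ) := by
    intro T T' h σ
    let d := fun t : T'.left => (nonempty_locData F ((presheaf F).map h.op σ) t).some
    refine sections_ext K hK₁ L (fun t : ULift.{u + 1} T'.left => (d t.down).Z)
      (fun t => (d t.down).g) (fun t => (d t.down).etale) (fun t => ⟨⟨t⟩, (d t).mem⟩) _ _ fun t => ?_
    rw [map_map]
    exact (back_spec K F hK₁ σ _ _ _ ((map_map (presheaf F) _ h σ).symm.trans (d t.down).eq)).trans
      (back_spec K F hK₁ _ _ _ _ (d t.down).eq).symm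
  have hadd : ∀ (T : Over S) (σ τ : sect F T),
      back K F hK₁ T (σ + τ) = back K F hK₁ T σ + back K F hK₁ T τ := by
    intro T σ τ
    let d := fun t : T.left => (nonempty_locData F σ t).some
    let g₁ := fun t : T.left => (d t).g
    let d' := fun (t : T.left) (z : (d t).Z.left) =>
      (nonempty_locData F ((presheaf F).map (d t).g.op τ) z).some
    let ι := Σ t : ULift.{u + 1} T.left, ULift.{u + 1} (d t.down).Z.left
    refine sections_ext K hK₁ L (fun i : ι => (d' i.1.down i.2.down).Z)
      (fun i => (d' i.1.down i.2.down).g ≫ (d i.1.down).g) (fun i => ?_) (fun t => ?_) _ _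
      fun i => ?_
    · have := (d' i.1.down i.2.down).etale
      have := (d i.1.down).etale
      exact (inferInstance : Etale ((d' i.1.down i.2.down).g.left ≫ (d i.1.down).g.left))
    · obtain ⟨z, hz⟩ := (d t).mem
      obtain ⟨w, hw⟩ := (d' t z).mem
      exact ⟨⟨⟨t⟩, ⟨z⟩⟩, w, (congrArg (d t).g.left.base hw).trans hz⟩
    · let D := d i.1.down
      let D' := d' i.1.down i.2.down
      let k := D'.g ≫ D.g
      let W := prodEt D.W D'.W
      let mm : D'.Z ⟶ (EtFppf.a S).obj W := Over.homMk
        (pullback.lift (D'.g ≫ D.m).left D'.m.left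
          ((Over.w (D'.g ≫ D.m)).trans (Over.w D'.m).symm)) (by
          change pullback.lift (D'.g ≫ D.m).left D'.m.left _ ≫
            pullback.fst D.W.hom D'.W.hom ≫ D.W.hom = D'.Z.hom
          rw [← Category.assoc]
          exact (congrArg (· ≫ D.W.hom) (pullback.lift_fst _ _ _)).trans (Over.w (D'.g ≫ D.m)))
      have e₁ : mm ≫ (EtFppf.a S).map (prodFst D.W D'.W) = D'.g ≫ D.m :=
        Over.OverMorphism.ext (pullback.lift_fst _ _ _)
      have e₂ : mm ≫ (EtFppf.a S).map (prodSnd D.W D'.W) = D'.m :=
        Over.OverMorphism.ext (pullback.lift_snd _ _ _)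
      have hofmap : ∀ {U U' : S.Etale} (q : U' ⟶ U) (a : F.obj.obj (op U)),
          ofSection F U' (F.obj.map q.op a) =
            (presheaf F).map ((EtFppf.a S).map q).op (ofSection F U a) := fun q a =>
        NatTrans.naturality_apply (unitP K F hS).hom q.op a
      have hσ' : (presheaf F).map k.op σ = (presheaf F).map mm.op
          (ofSection F W (F.obj.map (prodFst D.W D'.W).op D.a)) := by
        rw [hofmap, map_map, e₁, ← map_map _ D'.g D.g, D.eq, map_map]
      have hτ' : (presheaf F).map k.op τ = (presheaf F).map mm.op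
          (ofSection F W (F.obj.map (prodSnd D.W D'.W).op D'.a)) := by
        rw [hofmap, map_map, e₂, ← map_map _ D'.g D.g]
        exact D'.eq
      have hστ : (presheaf F).map k.op (σ + τ) = (presheaf F).map mm.op
          (ofSection F W (F.obj.map (prodFst D.W D'.W).op D.a +
            F.obj.map (prodSnd D.W D'.W).op D'.a)) := by
        rw [map_add]
        erw [map_add, map_add, hσ', hτ']
      rw [map_add, back_spec K F hK₁ _ k mm _ hστ, back_spec K F hK₁ _ k mm _ hσ',
        back_spec K F hK₁ _ k mm _ hτ']
      simp only [unitL, map_add]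
      exact map_add _ _ _
  let θ : shP K F hS ⟶ L := Sheaf.homEquiv.symm
    { app := fun T => AddCommGrpCat.ofHom
        (AddMonoidHom.mk' (back K F hK₁ T.unop) (hadd T.unop))
      naturality := fun T T' h => AddCommGrpCat.hom_ext (AddMonoidHom.ext fun σ =>
        (hnat h.unop σ).symm) }
  have h₁ : comp K F hS ≫ θ = 𝟙 L := by
    apply ((BigSite.piEtAdj K S).homEquiv _ _).injective
    rw [Adjunction.homEquiv_unit, Adjunction.homEquiv_unit]
    ext U a
    change back K F hK₁ ((EtFppf.a S).obj U.unop)
      ((comp K F hS).hom.app (op ((EtFppf.a S).obj U.unop)) (unitL K F U.unop a)) =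
        unitL K F U.unop a
    rw [comp_unitL]
    have h := back_spec K F hK₁ (ofSection F U.unop a) (𝟙 _) (𝟙 _) a rfl
    rw [op_id, CategoryTheory.Functor.map_id] at h
    exact h
  have h₂ : θ ≫ comp K F hS = 𝟙 _ := by
    ext T σ
    exact hback T.unop σ
  exact ⟨θ, h₁, h₂⟩


end Groth.Agent.Lib.EtGerm.UnivGen
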